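import Cfsg.Agent.H1.Acd2
import Cfsg.Agent.H26.NEnd
import Cfsg.Agent.H22.Rank1
import Cfsg.Agent.H16.Wal
import Cfsg.Agent.S0810
import Cfsg.Agent.S0803
import Cfsg.Agent.H26.L2S

/-! Groups whose proper subgroups have average character degree at most two: the binary octahedral subgroup (`bad_cover`),
elements acting on a module (`exists_good`), and the classification `Acd.main`. -/

set_option autoImplicit false
set_option linter.unusedSectionVars false

namespace H1.Acd
open Subgroup Cfsg H5 H18 Matrix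
open scoped commutatorElement MatrixGroups
universe u

variable {G Q : Type*} [Group G] [Finite G] [Group Q] [Finite Q]

theorem card_conj_le (f : G →* Q) (hf : Function.Surjective f) (R : Finset Q) (hR : ∀ g, ∃ r ∈ R, ∃ k, k * r * k⁻¹ = g) :
    Nat.card (ConjClasses G) ≤ R.card * Nat.card f.ker := by
  choose s hs using hf
  rw [← Nat.card_eq_finsetCard, ← Nat.card_prod]
  refine Nat.card_le_card_of_surjective (fun p : R × f.ker => ConjClasses.mk (s p.1 * p.2)) fun c => ?_
  obtain ⟨g, rfl⟩ := ConjClasses.mk_surjective c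
  obtain ⟨r, hr, k, hk⟩ := hR (f g)
  refine ⟨(⟨r, hr⟩, ⟨(s r)⁻¹ * ((s k)⁻¹ * g * s k), ?_⟩), ConjClasses.mk_eq_mk_iff_isConj.2 (isConj_iff.2 ⟨s k, ?_⟩)⟩
  · simp only [MonoidHom.mem_ker, map_mul, map_inv, hs, ← hk]
    group
  · simp only
    group

theorem big48 (h : Nat.card G = 48) (h1 : (commutator G).index ≤ 2) (h2 : Nat.card (ConjClasses G) ≤ 10) : Big G := by
  classical
  by_contra c
  have e : ∑ χ : IrrCharacter G, (charDegree (χ : G → ℂ) ^ 2 + 3 * if charDegree (χ : G → ℂ) = 1 then 1 else 0) ≤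
      ∑ χ : IrrCharacter G, (6 * (charDegree (χ : G → ℂ) - 2) + 4) := Finset.sum_le_sum fun χ _ => by
    have := χ.2.charDegree_pos
    have : charDegree (χ : G → ℂ) ≤ 4 := by
      by_contra! k
      exact c (big_of_deg χ (by omega))
    generalize charDegree (χ : G → ℂ) = d at *
    interval_cases d <;> simp
  rw [Finset.sum_add_distrib, Finset.sum_add_distrib, ← Finset.mul_sum, ← Finset.mul_sum, Finset.sum_boole, Nat.cast_id,
    card_lin, Finset.sum_const, Finset.card_univ, smul_eq_mul, sum_sq, h, ← Nat.card_eq_fintype_card,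
    card_irr_eq_card_conjClasses] at e
  unfold Big at c
  omega

theorem reps_S4 : ∀ g : Equiv.Perm (Fin 4), ∃ r ∈ ({1, Equiv.swap 0 1, Equiv.swap 0 1 * Equiv.swap 2 3,
    Equiv.swap 0 1 * Equiv.swap 1 2, Equiv.swap 0 1 * Equiv.swap 1 2 * Equiv.swap 2 3} : Finset (Equiv.Perm (Fin 4))),
    ∃ k, k * r * k⁻¹ = g := by
  decide +kernel

theorem index_S4 : (commutator (Equiv.Perm (Fin 4))).index ≤ 2 := by
  rw [← alternatingGroup.index_eq_two (α := Fin 4)]
  refine index_antitone ?_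
  rw [← Equiv.Perm.closure_three_cycles_eq_alternating, closure_le]
  intro c hc
  obtain ⟨g, hg⟩ := isConj_iff.1 (Equiv.Perm.isConj_iff_cycleType_eq.2 (Eq.trans hc hc.isThreeCycle_sq.symm))
  have : c = ⁅g, c⁆ := by rw [commutatorElement_def, hg, mul_inv_cancel_right]
  exact this ▸ commutator_mem_commutator (mem_top _) (mem_top _)

theorem bad_cover {F : Type*} [Field F] [Fintype F] (hF : Fintype.card F = 7) (hp : commutator G = ⊤) (f : G →* PSL(2, F))
    (hf : Function.Surjective f) (hc : f.ker ≤ center G) (h2 : Nat.card f.ker = 2) : Bad G := by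
  obtain ⟨S, ⟨e⟩⟩ := (Cfsg.Agent.S0803.result hF).2 rfl
  have c1 : Nat.card S = 24 := by rw [Nat.card_congr e.toEquiv, Nat.card_perm]; simp [Nat.factorial]
  have c2 : (S.comap f).index = 7 := by
    have := S.card_mul_index
    rw [c1, H10.card_PSL2_of 168 hF rfl] at this
    rw [index_comap_of_surjective _ hf]
    omega
  let g := e.toMonoidHom.comp (f.subgroupComap S)
  have hg : Function.Surjective g := e.surjective.comp (f.subgroupComap_surjective_of_surjective S hf)
  have k1 : g.ker = f.ker.subgroupOf (S.comap f) := by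
    ext x
    exact (map_eq_one_iff e e.injective).trans Subtype.ext_iff
  have k2 : Nat.card g.ker = 2 := by rw [k1, H18.card_subgroupOf (ker_le_comap f S), h2]
  refine ⟨S.comap f, fun k => by simp [k] at c2, big48 ?_ ?_ ((card_conj_le g hg _ reps_S4).trans ?_)⟩
  · rw [← g.ker.card_mul_index, k2, index_ker, MonoidHom.range_eq_top.2 hg, card_top, Nat.card_perm]
    simp [Nat.factorial]
  · rw [← index_map_eq _ hg, H21.map_commutator_of_surjective g hg]
    · exact index_S4
    intro z hz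
    rw [k1] at hz
    have := H21.pow_index_mem_commutator (S.comap f) (z := (z : G)) (hc hz) (hp ▸ mem_top _)
    have z2 := pow_card_eq_one_of_mem (show (z : G) ∈ f.ker from hz)
    rw [h2] at z2
    rw [c2, show 7 = 2 * 3 + 1 from rfl, pow_succ, pow_mul, z2, one_pow, one_mul, ← map_subtype_commutator] at this
    obtain ⟨w, hw, e⟩ := this
    exact (Subtype.ext e : w = z) ▸ hw
  · rw [k2]
    exact Nat.mul_le_mul_right 2 (Finset.card_le_five)

/-- the arithmetic condition of `bad_module` -/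
def Ar (r n : ℕ) : Prop := ∀ a e, 0 < e → r ^ a = n * e + 1 → n < e * (n - 2)

theorem ar_five {r n : ℕ} (hn : 5 ≤ n) (h : ∀ a, r ^ a ≠ n + 1) : Ar r n := fun a e e0 he => by
  have : 2 ≤ e := by
    by_contra c
    exact h a (by rw [he, show e = 1 by omega, mul_one])
  exact lt_of_lt_of_le (by omega) (Nat.mul_le_mul_right _ this)

theorem pow_cases (r a : ℕ) : r ^ a = 1 ∨ r ∣ r ^ a := by
  rcases a with _ | a
  exacts [.inl rfl, .inr (dvd_pow_self r a.succ_ne_zero)]

theorem exists_pp {m : ℕ} (ho : Odd m) (h : 5 ≤ m) : ∃ s k, s.Prime ∧ 5 ≤ s ^ (k + 1) ∧ s ^ (k + 1) ∣ m := by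
  have key : ∀ n, n ∣ m → n ≠ 1 → ¬ 3 ∣ n → ∃ s k, s.Prime ∧ 5 ≤ s ^ (k + 1) ∧ s ^ (k + 1) ∣ m := fun n h1 h2 h3 => by
    have hp := Nat.minFac_prime h2
    refine ⟨_, 0, hp, ?_, by simpa using (Nat.minFac_dvd n).trans h1⟩
    simpa using hp.five_le_of_ne_two_of_ne_three
      (fun e => (ho.of_dvd_nat ((Nat.minFac_dvd n).trans h1)).not_two_dvd_nat e.symm.dvd) fun e => h3 (e ▸ Nat.minFac_dvd n)
  by_cases c : 3 ∣ m
  · obtain ⟨n, rfl⟩ := c
    by_cases d : 3 ∣ n
    · exact ⟨3, 1, Nat.prime_three, by norm_num, Nat.mul_dvd_mul_left 3 d⟩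
    · exact key n (Dvd.intro_left 3 rfl) (by omega) d
  · exact key m dvd_rfl (by omega) c

theorem not_dvd_two_pow {n a q : ℕ} (hn : 5 ≤ n) (h : 2 ^ a = n + 1) : ¬ n ∣ 2 ^ q + 1 := fun d => by
  obtain _ | a := a
  · omega
  have e1 : 2 ^ (a + 1) ≡ 1 [MOD n] := by rw [h]; exact Nat.add_modEq_left
  have e2 : 2 ^ q ≡ 2 ^ (q % (a + 1)) [MOD n] := by
    conv_lhs => rw [← Nat.div_add_mod q (a + 1), pow_add, pow_mul]
    simpa using (e1.pow _).mul_right _
  have := Nat.le_of_dvd (Nat.succ_pos _) (((e2.add_right 1).dvd_iff dvd_rfl).1 d)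
  have l : 2 ^ (q % (a + 1)) ≤ 2 ^ a := Nat.pow_le_pow_right two_pos (Nat.le_of_lt_succ (Nat.mod_lt _ a.succ_pos))
  rw [pow_succ] at h
  omega

/-- the fields of the list -/
def Fl (q : ℕ) : Prop := q = 7 ∨ ∃ p, p.Prime ∧ 2 < p ∧ q = 2 ^ p

theorem Fl.le {q : ℕ} (h : Fl q) : 7 ≤ q := by
  rcases h with h | ⟨p, -, h, rfl⟩
  exacts [h.ge, (by norm_num : 7 ≤ 2 ^ 3).trans (Nat.pow_le_pow_right two_pos h)]

theorem exists_good {F : Type*} [Field F] [Fintype F] {r : ℕ} (hr : r.Prime) (hF : Fintype.card F = 5 ∨ Fl (Fintype.card F))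
    (h : ¬ (Fintype.card F = 7 ∧ r = 2)) : ∃ (b : PSL(2, F)) (s k : ℕ), s.Prime ∧ s ≠ r ∧ orderOf b = s ^ (k + 1) ∧
      Ar r (s ^ (k + 1)) ∧ (Fintype.card F = 5 → s ≠ 2) := by
  classical
  obtain ⟨-, c, -, hc, -⟩ := H10.exists_dihedral_nonsplit (F := F)
  have cauchy : ∀ p, p.Prime → Fintype.card F = p → ∃ b : PSL(2, F), orderOf b = p ^ (0 + 1) := fun p hp e => by
    obtain ⟨W, h, hW⟩ := H326.psl_unip (F := F)
    have := Fact.mk hp
    obtain ⟨b, hb⟩ := exists_prime_orderOf_dvd_card' (G := PSL(2, F)) p ((hW.trans e).symm.dvd.trans (card_subgroup_dvd_card W))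
    exact ⟨b, by simpa using hb⟩
  have od : ∀ a n, r ≠ 2 → Odd n → r ^ a ≠ n + 1 := fun a n h1 h2 e =>
    Nat.not_even_iff_odd.2 ((hr.odd_of_ne_two h1).pow (n := a)) (e ▸ h2.add_one)
  rcases hF with hF | hF | ⟨p, hp, p2, hF⟩
  · by_cases c5 : r = 5
    · refine ⟨c, 3, 0, Nat.prime_three, by omega, by simpa [hF] using hc, fun a e e0 he => ?_, fun _ => by omega⟩
      have := pow_cases r a
      have := od a 9 (by omega) (by decide)
      subst c5
      omega
    · obtain ⟨b, hb⟩ := cauchy 5 Nat.prime_five hF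
      refine ⟨b, 5, 0, Nat.prime_five, Ne.symm c5, hb, ar_five le_rfl fun a e => ?_, fun _ => by omega⟩
      by_cases c2 : r = 2
      · subst c2
        exact absurd (Nat.prime_three.dvd_of_dvd_pow (e ▸ by norm_num : 3 ∣ 2 ^ a)) (by norm_num)
      · exact od a 5 c2 (by decide) e
  · by_cases c7 : r = 7
    · refine ⟨c, 2, 1, Nat.prime_two, by omega, by simpa [hF] using hc, fun a e e0 he => ?_, fun _ => by omega⟩
      have := pow_cases r a
      subst c7
      omega
    · obtain ⟨b, hb⟩ := cauchy 7 (by norm_num) hF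
      exact ⟨b, 7, 0, by norm_num, Ne.symm c7, hb, ar_five (by norm_num) fun a =>
        od a 7 (fun e => h ⟨hF, e⟩) (by decide), fun _ => by omega⟩
  have l := Fl.le (.inr ⟨p, hp, p2, hF⟩)
  have ev : Even (Fintype.card F) := hF ▸ (Nat.even_pow.2 ⟨even_two, hp.ne_zero⟩)
  have o1 : Odd (Fintype.card F - 1) := Nat.Even.sub_odd (by omega) ev odd_one
  have g1 : Nat.gcd 2 (Fintype.card F - 1) = 1 := Nat.coprime_two_left.2 o1
  obtain ⟨-, d, -, hd, -⟩ := H10.exists_dihedral_split (F := F) (by omega)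
  rw [g1, Nat.div_one] at hc hd
  have key : ∀ x : PSL(2, F), Odd (orderOf x) → 5 ≤ orderOf x → ¬ r ∣ orderOf x → (r = 2 → x = c) →
      ∃ (b : PSL(2, F)) (s k : ℕ), s.Prime ∧ s ≠ r ∧ orderOf b = s ^ (k + 1) ∧ Ar r (s ^ (k + 1)) ∧
        (Fintype.card F = 5 → s ≠ 2) := fun x h1 h2 h3 h4 => by
    obtain ⟨s, k, hs, k1, k2⟩ := exists_pp h1 h2
    refine ⟨_, s, k, hs, fun e => h3 (e ▸ (dvd_pow_self s k.succ_ne_zero).trans k2),
      orderOf_pow_orderOf_div (orderOf_pos x).ne' k2, ar_five k1 fun a e => ?_, fun _ => by omega⟩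
    by_cases c2 : r = 2
    · rw [h4 c2, hc, hF] at k2
      exact not_dvd_two_pow k1 (c2 ▸ e) k2
    · exact od a _ c2 (h1.of_dvd_nat k2) e
  by_cases k : r ∣ Fintype.card F + 1
  · have r2 : r ≠ 2 := fun e => ev.add_one.not_two_dvd_nat (e ▸ k)
    refine key d (hd ▸ o1) (by omega) (fun k' => r2 ((Nat.prime_dvd_prime_iff_eq hr Nat.prime_two).1 ?_)) fun e => (r2 e).elim
    have := Nat.dvd_sub k (hd ▸ k')
    rwa [show Fintype.card F + 1 - (Fintype.card F - 1) = 2 by omega] at this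
  · exact key c (hc ▸ ev.add_one) (by omega) (hc ▸ k) fun _ => rfl

theorem card_ker_dvd {F : Type*} [Field F] [Fintype F] (h4 : Fintype.card F ≠ 4) (h9 : Fintype.card F ≠ 9)
    (hp : commutator G = ⊤) (f : G →* PSL(2, F)) (hf : Function.Surjective f) (hc : f.ker ≤ center G) :
    Nat.card f.ker ∣ Nat.gcd 2 (Fintype.card F - 1) := by
  obtain ⟨η, -, h⟩ := H21.exists_lift_commutator (H24.schur_SL2 (F := F) (by simpa using h4) (by simpa using h9))
    (H10.π F) f hf hc
  have := (card_dvd_of_surjective η (MonoidHom.range_eq_top.1 ((h H10.π_surjective).trans hp))).trans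
    (card_subgroup_dvd_card _)
  rw [← f.ker.card_mul_index, index_ker, MonoidHom.range_eq_top.2 hf, card_top, ← H10.card_center_mul_card_PSL,
    H10.card_center_SL2] at this
  exact Nat.dvd_of_mul_dvd_mul_right Nat.card_pos this

/-- the conclusion of the induction -/
def Con (G : Type*) [Group G] : Prop := ∃ (F : Type) (_ : Field F) (_ : Fintype F) (f : G →* PSL(2, F)),
  Function.Surjective f ∧ f.ker ≤ center G ∧
    ((Fintype.card F = 5 ∧ Nat.card f.ker ∣ 2) ∨ (Fl (Fintype.card F) ∧ f.ker = ⊥))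

theorem con_equiv {F : Type} [Field F] [Fintype F] (e : G ≃* PSL(2, F)) (h : Fintype.card F = 5 ∨ Fl (Fintype.card F)) :
    Con G := by
  have k : e.toMonoidHom.ker = ⊥ := (MonoidHom.ker_eq_bot_iff _).2 e.injective
  exact ⟨F, _, _, e.toMonoidHom, e.surjective, k ▸ bot_le, h.imp (fun h => ⟨h, by simp [k]⟩) fun h => ⟨h, k⟩⟩

theorem con_ms (h : IsMinimalSimple G) (nb : ¬ Bad G) : Con G := by
  have := h.1
  rcases H26.ms_class h with ⟨F, _, _, h4, ⟨e⟩⟩ | ⟨⟨e⟩⟩ | k
  · have := H27.simple_PSL h4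
    have od : Odd (Fintype.card F) → Fintype.card F ≤ 9 := fun o => not_lt.1 fun c => nb ((bad_psl o c).equiv e)
    rcases (Cfsg.Agent.S0810.result rfl).1 (H26.ms_equiv h e) with ⟨r, hr, k⟩ | ⟨r, hr, r2, k⟩ | ⟨k, k1, k2⟩ | k
    · rcases hr.two_le.eq_or_lt with rfl | c
      · have : Fact (Nat.Prime 5) := ⟨Nat.prime_five⟩
        obtain ⟨e1⟩ := H16.psl_A5 (F := F) (.inl k)
        obtain ⟨e2⟩ := H16.psl_A5 (F := ZMod 5) (.inr (ZMod.card 5))
        exact con_equiv (e.trans (e1.trans e2.symm)) (.inl (ZMod.card 5))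
      · exact con_equiv e (.inr (.inr ⟨r, hr, c, k⟩))
    · have := od (k ▸ Odd.pow (by decide))
      have := Nat.pow_le_pow_right three_pos (show 3 ≤ r from lt_of_le_of_ne hr.two_le (Ne.symm r2))
      omega
    · have o := k.odd_of_ne_two (by omega)
      have := od o
      obtain ⟨j, hj⟩ := o
      exact con_equiv e (.inr (.inl (by omega)))
    · exact con_equiv e (.inl k)
  · exact (nb (bad_L33 e)).elim
  · exact (nb (bad_sz k)).elim

theorem con_quo (ns : ¬ Group.IsSolvable G) (V : Subgroup G) [V.Normal] {r : ℕ} (hr : r.Prime) (hV : Elem r V)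
    (hs : ∀ H : Subgroup G, H ≠ ⊤ → Solv H) (nb : ¬ Bad G) (h : Con (G ⧸ V)) : Con G := by
  obtain ⟨F, _, _, g, g1, g2, g3⟩ := h
  have hp : commutator G = ⊤ := by
    by_contra c
    have : Group.IsSolvable (commutator G) := hs _ c
    have : Group.IsSolvable (G ⧸ commutator G) := Group.isSolvable_of_comm fun a b => mul_comm (G := Abelianization G) a b
    exact ns (Group.isSolvable_of_ker_le_range (commutator G).subtype (QuotientGroup.mk' (commutator G)) (by simp))
  let f := g.comp (QuotientGroup.mk' V)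
  have hf : Function.Surjective f := g1.comp (QuotientGroup.mk'_surjective V)
  have l : 5 ≤ Fintype.card F := g3.elim (fun k => k.1.ge) fun k => le_trans (by norm_num) k.1.le
  by_cases c : V ≤ center G
  · have hc : f.ker ≤ center G := fun z hz =>
      H21.mem_center_of_map_mem_center ⟨hp⟩ (QuotientGroup.mk' V) (by simpa using c) (g2 hz)
    have k := card_ker_dvd (by omega) (by
      rcases g3 with k | ⟨k | ⟨p, hp, -, k⟩, -⟩
      · omega
      · omega
      · exact fun e => absurd (Nat.prime_three.dvd_of_dvd_pow (k.symm.trans e ▸ by norm_num : 3 ∣ 2 ^ p)) (by norm_num))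
      hp f hf hc
    refine ⟨F, _, _, f, hf, hc, g3.imp (fun h => ⟨h.1, k.trans (Nat.gcd_dvd_left _ _)⟩) fun h => ⟨h.1, card_eq_one.1 ?_⟩⟩
    rcases h.1 with h | ⟨p, hp, -, h⟩
    · exact ((Nat.dvd_prime Nat.prime_two).1 (k.trans (Nat.gcd_dvd_left _ _))).resolve_right fun e =>
        nb (bad_cover h hp f hf hc e)
    · rwa [Nat.coprime_two_left.2 (Nat.Even.sub_odd (by omega) (h ▸ Nat.even_pow.2 ⟨even_two, hp.ne_zero⟩) odd_one),
        Nat.dvd_one] at k
  have := H27.simple_PSL (F := F) (by omega)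
  have hC : C(V) ≤ f.ker := by
    have n : (C(V)).Normal := inferInstance
    refine (Subgroup.map_eq_bot_iff _).1 ((n.map f hf).eq_bot_or_eq_top.resolve_right fun e => ?_)
    have : Group.IsSolvable C(V) := hs _ fun e => c fun x hx => mem_center_iff.2 fun y =>
      (cent_iff.1 e.ge y (mem_top y) x hx)
    have : Group.IsSolvable ((C(V)).map f) := Group.isSolvable_of_surjective (f.subgroupMap_surjective _)
    rw [e] at this
    exact H10.not_isSolvable_PSL2 (by omega) (solv_top_iff.1 this)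
  have ck : Nat.card f.ker = Nat.card V * Nat.card g.ker := by
    rw [← MonoidHom.comap_ker, H1.card_comap_mk', mul_comm]
  by_cases d : Fintype.card F = 7 ∧ r = 2
  · have e : f.ker = V := by
      rw [← MonoidHom.comap_ker, (g3.resolve_left fun k => by omega).2, MonoidHom.comap_bot, QuotientGroup.ker_mk']
    exact (nb (bad_eight ns d.1 f hf (e ▸ d.2 ▸ hV) (e.symm ▸ e ▸ hC))).elim
  obtain ⟨b, s, k, k1, k2, k3, k4, k5⟩ := exists_good hr (g3.imp And.left And.left) d
  obtain ⟨j, hj⟩ := PiNat.eq_pow (hV.pi' hr) card_ne_zero'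
  obtain ⟨y, y1, y2⟩ := exists_lift f hf b (by
    rw [ck, k3, hj]
    refine Nat.Coprime.pow_right _ (Nat.Coprime.mul_left (((Nat.coprime_primes hr k1).2 k2.symm).pow_left _) ?_)
    rcases g3 with h | h
    · exact Nat.Coprime.coprime_dvd_left h.2 ((Nat.coprime_primes Nat.prime_two k1).2 (k5 h.1).symm)
    · simp [h.2])
  refine (nb (bad_module ns hV hr k1 k2 (y2.trans k3) (fun e => ?_) k4)).elim
  have := orderOf_dvd_of_pow_eq_one (show b ^ s ^ k = 1 by rw [← y1, ← map_pow]; exact hC e)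
  rw [k3, Nat.pow_dvd_pow_iff_le_right k1.one_lt] at this
  omega

theorem main (G : Type u) [Group G] [Finite G] (ns : ¬ Group.IsSolvable G) (nb : ¬ Bad G) : Con G := by
  refine (H9.MSi.ind (fun G _ => ¬ Group.IsSolvable G ∧ ∀ _ : Finite G, ¬ Bad G → Con G) (fun G _ _ H h1 h2 => ?_)
    (fun G _ _ V _ r hr hV _ hs h => ?_) (fun G _ _ h => ⟨fun k => h.2.1 ⟨⟨?_⟩⟩, fun _ => con_ms h⟩) G ns).2 _ nb
  · refine ⟨fun _ => h2.1 inferInstance, fun _ nb => (nb ?_).elim⟩
    obtain ⟨D, N, _, s⟩ := H9.MSi.exists_sec h2.1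
    have := s.ms.1
    exact ⟨D.map H.subtype, fun e => h1 (top_le_iff.1 (e.ge.trans (map_subtype_le D))),
      ((big_simple s.ms.2.1).of_surj _ (QuotientGroup.mk'_surjective N)).equiv
        (D.equivMapOfInjective _ H.subtype_injective).symm⟩
  · have ns : ¬ Group.IsSolvable G := fun _ => h.1 inferInstance
    exact ⟨ns, fun _ nb => con_quo ns V hr hV hs nb
      (h.2 _ fun k => nb (k.of_surj _ (QuotientGroup.mk'_surjective V)))⟩
  · have := h.1
    exact IsSimpleGroup.comm_iff_isSolvable.2 k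

end H1.Acd
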