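import Cfsg.Agent.H1.Fro1
import Cfsg.Agent.H26.L2S
import Cfsg.Agent.H10.Syl2
/-! Exact solution counts `Ex G n k` (`|G| = n k`, `n` solutions of `x ^ n = 1`): centraliser bound `Ex.cen`, elements of
order `q n_q` (`Ex.elt`), prime cofactor (`Ex.prime`), counting along the components of the prime graph (`ct`, `sm`,
`Ex.two`). -/
set_option autoImplicit false
set_option linter.unusedSectionVars false
namespace H1.Fro
open Subgroup Function H326

structure Ex (G : Type*) [Group G] (n k : ℕ) : Prop where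
  mul : Nat.card G = n * k
  cnt : ns G n = n

variable {G : Type*} [Group G] [Finite G] {n k q a l m r : ℕ} {x : G}

theorem tv_of (h : ∀ n k, Ex G n k → n = 1 ∨ k = 1) : Tv G := fun n ⟨k, e⟩ c =>
  (h n k ⟨e, c⟩).imp_right fun j => by rw [e, j, mul_one]

theorem dvd_of_not (hq : q.Prime) {o : ℕ} (o0 : o ≠ 0) (h1 : o ∣ n * q) (h2 : ¬ o ∣ n) (ha : q ^ a ∣ n) :
    q ^ (a + 1) ∣ o := by
  obtain ⟨j, o', h, rfl⟩ := Nat.exists_eq_pow_mul_and_not_dvd o0 q hq.ne_one
  have c : q.Coprime o' := (Nat.Prime.coprime_iff_not_dvd hq).2 h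
  by_contra i
  have : j ≤ a := by
    by_contra! c
    exact i ((pow_dvd_pow q c).mul_right _)
  exact h2 ((c.pow_left j).mul_dvd_of_dvd_of_dvd ((pow_dvd_pow q this).trans ha)
    (c.symm.dvd_of_dvd_mul_right ((dvd_mul_left _ _).trans h1)))

namespace Ex
variable (h : Ex G n k)
include h

theorem n0 : 0 < n := Nat.pos_of_mul_pos_right (h.mul ▸ Nat.card_pos)
theorem k0 : 0 < k := Nat.pos_of_mul_pos_left (h.mul ▸ Nat.card_pos)
theorem dvd : n ∣ Nat.card G := ⟨k, h.mul⟩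

theorem lt {S : Set G} (hS : ∀ x ∈ S, x ≠ 1 ∧ x ^ n = 1) : S.ncard < n :=
  lt_of_lt_of_eq (Set.ncard_lt_ncard (t := {x | x ^ n = 1}) ⟨fun x a => (hS x a).2, fun c =>
    (hS 1 (c (one_pow n))).1 rfl⟩) h.cnt

theorem cen (x1 : x ≠ 1) (hx : x ^ n = 1) : k < Nat.card (centralizer ({x} : Set G)) := by
  have c := H22.card_isConj_pow x 1
  have l := h.lt (S := {y | IsConj x (y ^ 1)}) fun y hy => by
    obtain ⟨g, e⟩ := isConj_iff.1 hy
    rw [pow_one] at e
    exact ⟨by simpa [← e] using x1, by simp [← e, conj_pow, hx]⟩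
  rw [← Nat.card_coe_set_eq, Set.coe_setOf, c] at l
  simp only [pow_one, Nat.card_unique, mul_one] at l
  have := (centralizer ({x} : Set G)).card_mul_index
  have := h.mul
  nlinarith [h.k0]

theorem elt (hq : q.Prime) (hk : q ∣ k) (ha : q ^ a ∣ n) : ∃ y : G, orderOf y = q ^ (a + 1) := by
  obtain ⟨y, y1, y2⟩ : ∃ y : G, y ^ (n * q) = 1 ∧ y ^ n ≠ 1 := by
    by_contra! c
    have := Nat.card_le_card_of_injective (β := {x : G // x ^ n = 1})
      (fun x : {x : G // x ^ (n * q) = 1} => ⟨x.1, c _ x.2⟩) fun _ _ e => Subtype.ext (Subtype.mk.inj e)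
    have := le_ns (G := G) (h.mul ▸ Nat.mul_dvd_mul_left n hk)
    nlinarith [h.cnt, h.n0, hq.two_le]
  have := dvd_of_not hq (orderOf_pos y).ne' (orderOf_dvd_of_pow_eq_one y1) (mt orderOf_dvd_iff_pow_eq_one.1 y2) ha
  exact ⟨_, orderOf_pow_orderOf_div (orderOf_pos y).ne' this⟩

variable [IsSimpleGroup G]

theorem sub {H : Subgroup G} (e : Nat.card H = n) : n = 1 ∨ k = 1 := by
  rcases (normal_of e h.cnt).eq_bot_or_eq_top with rfl | rfl
  · exact .inl (e.symm.trans card_bot)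
  · exact .inr (Nat.eq_of_mul_eq_mul_left h.n0 (by rw [← h.mul, ← card_top, e, mul_one]))

theorem pp (hq : q.Prime) (e : n ∣ q ^ a) : n = 1 ∨ k = 1 := by
  obtain ⟨b, -, e⟩ := (Nat.dvd_prime_pow hq).1 e
  have := Fact.mk hq
  obtain ⟨H, c⟩ := Sylow.exists_subgroup_card_pow_prime (G := G) q (e ▸ h.dvd)
  exact h.sub (c.trans e.symm)

theorem prime (nc : ¬ IsMulCommutative G) : ¬ k.Prime := fun hk => by
  have := Fact.mk hk
  obtain ⟨a, n', nd, rfl⟩ := Nat.exists_eq_pow_mul_and_not_dvd h.n0.ne' k hk.ne_one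
  have fa : (Nat.card G).factorization k = a + 1 := by
    rw [h.mul, mul_right_comm, ← pow_succ, Nat.factorization_mul (pow_ne_zero _ hk.ne_zero) (by rintro rfl; simp at nd),
      hk.factorization_pow]
    simp [Nat.factorization_eq_zero_of_not_dvd nd]
  obtain ⟨w, hw⟩ := h.elt hk dvd_rfl (dvd_mul_right _ _)
  let P : Sylow k G := Sylow.ofCard (zpowers w) (by rw [Nat.card_zpowers, hw, fa])
  have i := H10.relIndex_centralizer_ne_one (H10.commutator_eq_top_of_simple nc) P (h.mul ▸ dvd_mul_left _ _)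
  have k2 : k ≠ 2 := by
    rintro rfl
    exact i (relIndex_eq_one.2 (IsCyclic.normalizer_le_centralizer
      ((Nat.minFac_eq_two_iff _).2 (h.mul ▸ dvd_mul_left _ _)) (isCyclic_zpowers w)))
  have c := H10.card_sylow_mul_eq P
  let f : Sylow k G × centralizer ((P : Subgroup G) : Set G) → G := fun z =>
    (MulAction.exists_smul_eq G P z.1).choose * z.2 * (MulAction.exists_smul_eq G P z.1).choose⁻¹
  have s : {x : G | x ^ (k ^ a * n') = 1}ᶜ ⊆ Set.range f := fun y hy => by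
    have d := dvd_of_not hk (orderOf_pos y).ne' (h.mul ▸ orderOf_dvd_natCard y) (mt orderOf_dvd_iff_pow_eq_one.1 hy)
      (dvd_mul_right _ _)
    let Q : Sylow k G := Sylow.ofCard (zpowers (y ^ (orderOf y / k ^ (a + 1))))
      (by rw [Nat.card_zpowers, orderOf_pow_orderOf_div (orderOf_pos y).ne' d, fa])
    have e := (MulAction.exists_smul_eq G P Q).choose_spec
    refine ⟨(Q, ⟨(MulAction.exists_smul_eq G P Q).choose⁻¹ * y * (MulAction.exists_smul_eq G P Q).choose,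
      fun u hu => ?_⟩), by simp [f, mul_assoc]⟩
    generalize (MulAction.exists_smul_eq G P Q).choose = g at e
    have : g * u * g⁻¹ ∈ (Q : Subgroup G) := by
      rw [← e, Sylow.coe_subgroup_smul]
      exact smul_mem_pointwise_smul u (MulAut.conj g) _ hu
    obtain ⟨j, l⟩ := this
    have : g * u * g⁻¹ * y = y * (g * u * g⁻¹) := by rw [← l]; group
    calc _ = g⁻¹ * (g * u * g⁻¹ * y) * g := by group
      _ = _ := by rw [this]; group
  have s := (Set.ncard_le_ncard s).trans (Finite.card_range_le f)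
  have t := Set.ncard_add_ncard_compl {x : G | x ^ (k ^ a * n') = 1}
  rw [← Nat.card_coe_set_eq, Set.coe_setOf, ← ns, h.cnt] at t
  rw [Nat.card_prod] at s
  have i0 : _ ≠ 0 := index_ne_zero_of_finite (H := (centralizer ((P : Subgroup G) : Set G)).subgroupOf
    (normalizer ((P : Subgroup G) : Set G)))
  rw [← relIndex] at i0
  have := h.mul
  have := h.n0
  have k3 := hk.two_le.lt_of_ne' k2
  generalize k ^ a * n' = n at *
  have i2 : 2 ≤ _ := Nat.lt_of_le_of_ne (Nat.pos_of_ne_zero i0) i.symm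
  rw [mul_left_comm] at c
  nlinarith [Nat.mul_le_mul_right (Nat.card (Sylow k G) * Nat.card (centralizer ((P : Subgroup G) : Set G))) i2,
    Nat.mul_le_mul_left n k3]

theorem lt3 (nc : ¬ IsMulCommutative G) (e : k ≤ 3) : k = 1 := by
  have := h.k0
  have := h.prime nc
  interval_cases k <;> simp_all [Nat.prime_two, Nat.prime_three]

end Ex

/-- nontrivial common solutions -/
def so (G : Type*) [Group G] (n l : ℕ) : Set G := {x | x ^ n = 1 ∧ x ≠ 1 ∧ x ^ l = 1}

theorem ct (t : Tri G l m r) (n : ℕ) : ∃ j, (so G n l).ncard = m * r * j ∧ l.gcd n ∣ m * r * j + 1 := by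
  obtain ⟨j, e⟩ := H10.dvd_ncard_of_conj ⊤ (so G n l).toFinite (m * r)
    (fun g _ s hs => ⟨by simp [conj_pow, hs.1], by simpa using hs.2.1, by simp [conj_pow, hs.2.2]⟩)
    fun s hs => by rw [relIndex_top_right]; exact t.idx hs.2.1 hs.2.2
  refine ⟨j, e, (H22.frobenius_dvd_card_pow_eq_one (G := G) ((Nat.gcd_dvd_left l n).trans
    (t.card ▸ (dvd_mul_right l m).mul_right r))).trans (dvd_of_eq ?_)⟩
  rw [← e, ← Set.ncard_insert_of_notMem (a := 1) (fun c => c.2.1 rfl), ← Nat.card_coe_set_eq]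
  refine Nat.card_congr (Equiv.subtypeEquivRight fun x => ?_)
  rw [pow_gcd_eq_one]
  exact ⟨fun c => (em _).imp id fun d => ⟨c.2, d, c.1⟩, by rintro (rfl | c); exacts [by simp, ⟨c.2.2, c.1⟩]⟩

theorem sm (t : Tri G l m r) (n : ℕ) : ns G n = 1 + (so G n l).ncard + (so G n m).ncard + (so G n r).ncard := by
  have e : {x : G | x ^ n = 1} = insert 1 (so G n l ∪ so G n m ∪ so G n r) := by
    ext x
    refine ⟨fun hx => (em _).imp id fun c => ?_, ?_⟩
    · obtain e | e | e := t.ord x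
      exacts [.inl (.inl ⟨hx, c, e⟩), .inl (.inr ⟨hx, c, e⟩), .inr ⟨hx, c, e⟩]
    · rintro (rfl | (h | h) | h)
      exacts [one_pow _, h.1, h.1, h.1]
  have d : ∀ {l m : ℕ}, l.Coprime m → Disjoint (so G n l) (so G n m) := fun c =>
    Set.disjoint_left.2 fun x a b => a.2.1 (one_of_cop c a.2.2 b.2.2)
  rw [ns, ← Set.coe_setOf, Nat.card_coe_set_eq, e, Set.ncard_insert_of_notMem (by
    rintro ((h | h) | h) <;> exact h.2.1 rfl), Set.ncard_union_eq (Set.disjoint_union_left.2 ⟨d t.ln, d t.mn⟩),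
    Set.ncard_union_eq (d t.lm)]
  ring

theorem Ex.tri (h : Ex G n k) (t : Tri G l m r) : n = l.gcd n * m.gcd n * r.gcd n ∧ ∃ i j s,
    n = 1 + m * r * i + r * l * j + l * m * s ∧ l.gcd n ∣ m * r * i + 1 ∧ m.gcd n ∣ r * l * j + 1 ∧
      r.gcd n ∣ l * m * s + 1 := by
  obtain ⟨i, i1, i2⟩ := ct t n
  obtain ⟨j, j1, j2⟩ := ct t.rot n
  obtain ⟨s, s1, s2⟩ := ct t.rot.rot n
  exact ⟨by rw [← t.lm.mul_gcd, ← (t.ln.mul_left t.mn).mul_gcd, ← t.card, Nat.gcd_eq_right h.dvd], i, j, s,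
    by rw [← i1, ← j1, ← s1, ← sm t, h.cnt], i2, j2, s2⟩

/-- an isolated prime `p` -/
theorem Ex.two (h : Ex G n k) {p : ℕ} (hp : p.Prime) (t : Tri G p m 1) :
    (∃ i, m * i < n ∧ p ∣ m * i + 1) ∨ n ∣ m ∧ n % p = 1 := by
  obtain ⟨e, i, j, s, a, b, c, -⟩ := h.tri t
  obtain ⟨s', s1, -⟩ := ct t.rot.rot n
  rcases (Nat.dvd_prime hp).1 (Nat.gcd_dvd_left p n) with g | g
  · refine .inr ⟨by rw [e, g]; simpa using Nat.gcd_dvd_left m n, ?_⟩
    have := sm t n
    obtain ⟨j, j1, -⟩ := ct t.rot n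
    rw [h.cnt, s1, j1, (Set.eq_empty_of_forall_notMem fun x c => c.2.1 (one_of_cop g c.2.2 c.1) : so G n p = ∅)] at this
    rw [this, Set.ncard_empty, one_mul, mul_assoc, add_zero, Nat.add_mul_mod_self_left, Nat.add_mul_mod_self_left,
      Nat.mod_eq_of_lt hp.one_lt]
  · exact .inl ⟨i, by rw [mul_one] at a; omega, by simpa [g] using b⟩

/-- a component `l` met by `n` forces `n` to be large -/
theorem Ex.big (h : Ex G n k) (t : Tri G l m r) {c : ℕ} (hc : m * r ≡ c [MOD l]) (d : l.gcd n ≠ 1) :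
    m * r ≤ c * (m.gcd n * r.gcd n) := by
  obtain ⟨e, i, j, s, a, b, -⟩ := h.tri t
  have b' : l.gcd n ∣ c * i + 1 := (Nat.modEq_zero_iff_dvd.1 ((((hc.of_dvd (Nat.gcd_dvd_left l n)).mul_right i).add_right
    1).symm.trans (Nat.modEq_zero_iff_dvd.2 b)))
  have i0 : 1 ≤ i := Nat.pos_of_ne_zero (by rintro rfl; simp [d] at b)
  have := Nat.le_of_dvd (by omega) b'
  have g : m.gcd n * r.gcd n ∣ m * r := Nat.mul_dvd_mul (Nat.gcd_dvd_left ..) (Nat.gcd_dvd_left ..)
  rw [mul_assoc] at e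
  generalize m.gcd n * r.gcd n = u at *
  obtain ⟨v, hv⟩ := g
  rw [hv] at a ⊢
  rw [mul_comm c]
  refine Nat.mul_le_mul_left u (Nat.le_of_lt_succ (Nat.lt_of_mul_lt_mul_right (a := i) (Nat.lt_of_mul_lt_mul_left (a := u) ?_)))
  nlinarith [Nat.mul_le_mul_left u this, Nat.zero_le (r * l * j), Nat.zero_le (l * m * s), Nat.mul_le_mul_left u i0]

end H1.Fro
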