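import Cfsg.Agent.H1.Fro2
import Cfsg.Agent.H13.CitJ
import Cfsg.Agent.H11.Spec
import Cfsg.Agent.H16.AltSpec
import Cfsg.Agent.H2.IdN
import Cfsg.Agent.H2.LyF
/-! Frobenius' conjecture for `PSL₂(q)`, `Sz(q)`, `PSL₃(3)`, `PSU₃(3)`, `A₇` and simple groups of order 7920. -/
set_option autoImplicit false
set_option linter.unusedSectionVars false
namespace H1.Fro
open Subgroup Function H326 Cfsg
open scoped MatrixGroups

variable {G : Type*} [Group G] [Finite G] {n k q a b l m r : ℕ} {x : G}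

theorem tv_od (o : Od G q a b) : Tv G := fun n ⟨k, e⟩ c => by
  obtain ⟨g, i, j, s, E, e1, e2, e3⟩ := Ex.tri ⟨e, c⟩ o.toTri
  rw [g, o.card]
  exact arith o.add o.ab o.five o.odd o.ev (o.lm.mul_right o.ln) (Nat.gcd_dvd_left ..) (Nat.gcd_dvd_left ..)
    (Nat.gcd_dvd_left ..) (g ▸ E) e1 e2 e3

theorem cof {u y c : ℕ} (h : u * y * r ≤ c * (u * m)) (hr : m ∣ r) (u0 : 0 < u) (r0 : 0 < r) : y ≤ c := by
  have := Nat.le_of_dvd r0 hr
  by_contra! j
  nlinarith [Nat.mul_le_mul_left (c * u) this, Nat.mul_le_mul_left (u * r) j, Nat.mul_pos u0 r0]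

variable [IsSimpleGroup G] (nc : ¬ IsMulCommutative G)
include nc

theorem tv_ev {e : ℕ} (hq : q + 1 = 2 ^ e) (h3 : 3 ≤ q) (t : Tri G (q + 1) q (q + 2)) : Tv G := tv_of fun n k h => by
  obtain ⟨g, -⟩ := h.tri t
  have b1 := h.big t.rot (c := 2) ((Nat.modEq_iff_dvd' (by nlinarith)).2 ⟨q + 3, Nat.sub_eq_of_eq_add (by ring)⟩).symm
  have b2 := h.big t.rot.rot (c := 2) (Nat.modEq_iff_dvd.2 ⟨1 - q, by push_cast; ring⟩)
  have m := h.mul
  rw [t.card] at m
  obtain ⟨x, hx⟩ := Nat.gcd_dvd_left (q + 1) n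
  obtain ⟨y, hy⟩ := Nat.gcd_dvd_left q n
  obtain ⟨w, hw⟩ := Nat.gcd_dvd_left (q + 2) n
  have qo : q % 2 = 1 := by
    rcases e with _ | e <;> omega
  have n0 := h.n0
  generalize (q + 1).gcd n = u at *
  generalize q.gcd n = a at *
  generalize (q + 2).gcd n = b at *
  have p : 0 < u ∧ 0 < a ∧ 0 < b := by simpa [g, and_assoc] using n0
  have x1 : 1 ≤ x := Nat.pos_of_ne_zero (by rintro rfl; omega)
  have lu : u ≤ q + 1 := by nlinarith
  by_cases c : a = 1 ∧ b = 1
  · exact h.pp (a := e) Nat.prime_two ⟨x, by rw [g, c.1, c.2, mul_one, mul_one, ← hq]; exact hx⟩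
  have : a ≠ 1 ∧ b ≠ 1 := by
    refine ⟨fun i => ?_, fun i => ?_⟩
    · have := b2 fun j => c ⟨i, j⟩
      nlinarith
    · have := b1 fun j => c ⟨j, i⟩
      nlinarith
  have c1 : w * x ≤ 2 := Nat.le_of_mul_le_mul_left (c := b * u) (by have := b1 this.1; rw [hw, hx] at this; linarith) (Nat.mul_pos p.2.2 p.1)
  have c2 : x * y ≤ 2 := Nat.le_of_mul_le_mul_left (c := u * a) (by have := b2 this.2; rw [hx] at this; nth_rw 1 [hy] at this; linarith)
    (Nat.mul_pos p.1 p.2.1)
  have yo : Odd y := Odd.of_dvd_nat (Nat.odd_iff.2 qo) (Dvd.intro_left _ hy.symm)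
  have wo : Odd w := Odd.of_dvd_nat (Nat.odd_iff.2 (by omega)) (Dvd.intro_left _ hw.symm)
  obtain rfl : y = 1 := by have : y ≤ 2 := by nlinarith
                           rw [Nat.odd_iff] at yo; omega
  obtain rfl : w = 1 := by have : w ≤ 2 := by nlinarith
                           rw [Nat.odd_iff] at wo; omega
  have : k = x := Nat.eq_of_mul_eq_mul_left n0 (by rw [← m, g, hw, hx]; nth_rw 1 [hy]; ring)
  exact .inr (h.lt3 nc (by omega))

theorem tv_quad {e Q A B C : ℕ} (hQ : Q = 2 ^ e) (Q16 : 16 ≤ Q) (A5 : 5 ≤ A) (B1 : 1 < B) (cd : Nat.card G = Q * A * B * C)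
    (qa : Q.Coprime A) (qb : Q.Coprime B) (qc : Q.Coprime C) (ab : A.Coprime B) (ac : A.Coprime C) (bc : B.Coprime C)
    (o : ∀ x : G, orderOf x ∣ 4 ∨ orderOf x ∣ A ∨ orderOf x ∣ B ∨ orderOf x ∣ C) (cA : Q * B * C ≡ 2 [MOD A])
    (cB : Q * A * C ≡ 4 [MOD B]) (cC : Q * A * B ≡ 4 [MOD C]) : Tv G := tv_of fun n k h => by
  have d4 : 4 ∣ Q := hQ ▸ pow_dvd_pow 2 (show 2 ≤ e by
    by_contra! c
    interval_cases e <;> omega)
  have d2 : 2 ∣ Q := (by norm_num : 2 ∣ 4).trans d4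
  have tA : Tri G A (Q * B) C := ⟨by rw [cd]; ring, qa.symm.mul_right ab, ac, qc.mul_left bc, fun x => by
    simp only [← orderOf_dvd_iff_pow_eq_one]
    rcases o x with i | i | i | i
    exacts [.inr (.inl ((i.trans d4).mul_right _)), .inl i, .inr (.inl (i.mul_left _)), .inr (.inr i)]⟩
  have tB : Tri G B (Q * A) C := ⟨by rw [cd]; ring, qb.symm.mul_right ab.symm, bc, qc.mul_left ac, fun x => by
    simp only [← orderOf_dvd_iff_pow_eq_one]
    rcases o x with i | i | i | i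
    exacts [.inr (.inl ((i.trans d4).mul_right _)), .inr (.inl (i.mul_left _)), .inl i, .inr (.inr i)]⟩
  have b1 := h.big tA cA
  have b2 := h.big tB cB
  have b3 := h.big tB.rot.rot (c := 4) (by rwa [mul_comm B])
  obtain ⟨g, -⟩ := h.tri tA
  rw [qb.mul_gcd] at b1 g
  rw [qa.mul_gcd] at b2 b3
  have m := h.mul
  rw [cd] at m
  obtain ⟨x, hx⟩ := Nat.gcd_dvd_left Q n
  obtain ⟨y, hy⟩ := Nat.gcd_dvd_left A n
  obtain ⟨w, hw⟩ := Nat.gcd_dvd_left B n
  obtain ⟨v, hv⟩ := Nat.gcd_dvd_left C n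
  have un := Nat.gcd_dvd_right Q n
  have n0 := h.n0
  generalize Q.gcd n = u at *
  generalize A.gcd n = a at *
  generalize B.gcd n = b at *
  generalize C.gcd n = c at *
  obtain ⟨p1, p2, p3, p4⟩ : 0 < a ∧ 0 < u ∧ 0 < b ∧ 0 < c := by simpa [g, and_assoc] using n0
  have hk : k = x * y * w * v := Nat.eq_of_mul_eq_mul_left n0 (by rw [← m, g, hw, hx, hy, hv]; ring)
  have od : ∀ {z Z : ℕ}, Q.Coprime Z → z ∣ Z → z % 2 = 1 := fun i j =>
    Nat.odd_iff.1 (Nat.coprime_two_left.1 ((i.coprime_dvd_left d2).coprime_dvd_right j))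
  have yo := od qa (Dvd.intro_left _ hy.symm)
  have wo := od qb (Dvd.intro_left _ hw.symm)
  have vo := od qc (Dvd.intro_left _ hv.symm)
  have x1 : 1 ≤ x := Nat.pos_of_ne_zero (by rintro rfl; omega)
  have c1 : a ≠ 1 → x * w * v ≤ 2 := fun i => Nat.le_of_mul_le_mul_left (c := u * b * c) (by
    have := b1 i; rw [hx, hw, hv] at this; linarith) (by positivity)
  have c2 : b ≠ 1 → x * y * v ≤ 4 := fun i => Nat.le_of_mul_le_mul_left (c := u * a * c) (by
    have := b2 i; rw [hx, hy, hv] at this; linarith) (by positivity)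
  have c3 : c ≠ 1 → x * y * w ≤ 4 := fun i => Nat.le_of_mul_le_mul_left (c := u * a * b) (by
    have := b3 i; rw [hx, hy, hw] at this; linarith) (by positivity)
  have y1 : 1 ≤ y := by omega
  have w1 : 1 ≤ w := by omega
  have v1 : 1 ≤ v := by omega
  by_cases i : a = 1
  · by_cases j : b = 1 ∧ c = 1
    · exact h.pp Nat.prime_two (a := e) ⟨x, by rw [g, i, j.1, j.2, ← hQ]; simpa using hx⟩
    have : 5 ≤ y := by rw [i] at hy; omega
    rcases not_and_or.1 j with j | j
    · exact absurd ((Nat.mul_le_mul (Nat.mul_le_mul x1 this) v1).trans (c2 j)) (by norm_num)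
    · exact absurd ((Nat.mul_le_mul (Nat.mul_le_mul x1 this) w1).trans (c3 j)) (by norm_num)
  have c1 := c1 i
  obtain rfl : w = 1 := by have := (Nat.mul_le_mul (Nat.mul_le_mul_right w x1) v1).trans c1
                           omega
  obtain rfl : v = 1 := by have := (Nat.mul_le_mul_right v (Nat.mul_le_mul_right 1 x1)).trans c1
                           omega
  have c2 := c2 (by rintro rfl; omega)
  obtain rfl : x = 1 := by
    by_contra j
    obtain rfl : x = 2 := by omega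
    obtain ⟨f, -, rfl⟩ := (Nat.dvd_prime_pow Nat.prime_two).1 (hQ ▸ Dvd.intro _ hx.symm : u ∣ 2 ^ e)
    obtain ⟨z, hz⟩ := h.elt Nat.prime_two ⟨y, by omega⟩ un
    rw [pow_succ, ← hx] at hz
    rcases hz ▸ o z with i | i | i | i
    · have := Nat.le_of_dvd four_pos i; omega
    all_goals have := od (by assumption) (d2.trans i); omega
  exact .inr (h.lt3 nc (by omega))

omit nc [IsSimpleGroup G] in
theorem tri_of {p : ℕ} (cd : Nat.card G = l * m * r) (c1 : l.Coprime m) (c2 : l.Coprime r) (c3 : m.Coprime r)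
    (o : ∀ x : G, orderOf x ∣ p) (d : ∀ d ∈ p.divisors, (∃ x : G, orderOf x = d) → d ∣ l ∨ d ∣ m ∨ d ∣ r) (p0 : p ≠ 0) :
    Tri G l m r := ⟨cd, c1, c2, c3, fun x => by
  simpa only [← orderOf_dvd_iff_pow_eq_one] using d _ (Nat.mem_divisors.2 ⟨o x, p0⟩) ⟨x, rfl⟩⟩

theorem tv_L33 (cd : Nat.card G = 5616) (o : ∀ x : G, orderOf x ∣ 13 ∨ orderOf x ∣ 24) : Tv G := tv_of fun n k h => by
  have m := h.mul
  rw [cd] at m
  rcases h.two (p := 13) (m := 432) (by norm_num) ⟨cd, by norm_num, by norm_num, by norm_num, fun x => by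
    simp only [← orderOf_dvd_iff_pow_eq_one]
    exact (o x).imp_right fun i => .inl (i.trans (by norm_num))⟩ with ⟨i, a, b⟩ | ⟨a, b⟩
  · exact .inr (h.lt3 nc (by have : 4 ≤ i := by omega
                             nlinarith))
  rcases (by decide +kernel : ∀ n ∈ Nat.divisors 432, n % 13 = 1 → n ∣ 3 ^ 3 ∨ n = 144) n (by simp [a]) b with c | rfl
  · exact h.pp Nat.prime_three c
  obtain ⟨z, hz⟩ := h.elt (a := 2) Nat.prime_three (by omega) (by norm_num)
  have := hz ▸ o z
  omega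

theorem tv_U33 (cd : Nat.card G = 6048) (o : ∀ x : G, orderOf x ∣ 7 ∨ orderOf x ∣ 24) : Tv G := tv_of fun n k h => by
  have m := h.mul
  rw [cd] at m
  rcases h.two (p := 7) (m := 864) (by norm_num) ⟨cd, by norm_num, by norm_num, by norm_num, fun x => by
    simp only [← orderOf_dvd_iff_pow_eq_one]
    exact (o x).imp_right fun i => .inl (i.trans (by norm_num))⟩ with ⟨i, a, b⟩ | ⟨a, b⟩
  · exact .inr (h.lt3 nc (by have : 2 ≤ i := by omega
                             nlinarith))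
  rcases (by decide +kernel : ∀ n ∈ Nat.divisors 864, n % 7 = 1 → n ∣ 2 ^ 3 ∨ n = 36 ∨ n = 288) n (by simp [a]) b with
    c | c
  · exact h.pp Nat.prime_two c
  obtain ⟨z, hz⟩ := h.elt (a := 2) Nat.prime_three (by rcases c with rfl | rfl <;> omega) (by omega)
  have := hz ▸ o z
  omega

theorem tv_A7 (cd : Nat.card G = 2520) (o : ∀ x : G, orderOf x ∣ 7 ∨ orderOf x ∣ 5 ∨ orderOf x ∣ 12) : Tv G :=
  tv_of fun n k h => by
  have m := h.mul
  rw [cd] at m
  rcases h.two (p := 7) (m := 360) (by norm_num) ⟨cd, by norm_num, by norm_num, by norm_num, fun x => by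
    simp only [← orderOf_dvd_iff_pow_eq_one]
    exact (o x).imp_right fun i => .inl (i.elim (·.trans (by norm_num)) (·.trans (by norm_num)))⟩ with ⟨i, a, b⟩ | ⟨a, b⟩
  · exact .inr (h.lt3 nc (by have : 2 ≤ i := by omega
                             nlinarith))
  rcases h.two (p := 5) (m := 504) (by norm_num) ⟨cd, by norm_num, by norm_num, by norm_num, fun x => by
    simp only [← orderOf_dvd_iff_pow_eq_one]
    rcases o x with i | i | i
    exacts [.inr (.inl (i.trans (by norm_num))), .inl i, .inr (.inl (i.trans (by norm_num)))]⟩ with ⟨i, c, d⟩ | ⟨c, d⟩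
  · have := Nat.le_of_dvd (by norm_num) a
    omega
  rcases (by decide +kernel : ∀ n ∈ Nat.divisors 360, n % 7 = 1 → n % 5 = 1 → n = 1 ∨ n = 36) n (by simp [a]) b d with
    c | rfl
  · exact .inl c
  obtain ⟨z, hz⟩ := h.elt (a := 2) Nat.prime_two (by omega) (by omega)
  have := hz ▸ o z
  omega

theorem tv_M11 (cd : Nat.card G = 7920) (o : ∀ x : G, orderOf x ∣ 11 ∨ orderOf x ∣ 5 ∨ orderOf x ∣ 144) : Tv G :=
  tv_of fun n k h => by
  have m := h.mul
  rw [cd] at m
  obtain ⟨g, i, j, s, E, e1, e2, -⟩ := h.tri (l := 11) (m := 5) (r := 144) ⟨cd, by norm_num, by norm_num, by norm_num,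
    fun x => by simpa only [← orderOf_dvd_iff_pow_eq_one] using o x⟩
  rcases h.two (p := 11) (m := 720) (by norm_num) ⟨cd, by norm_num, by norm_num, by norm_num, fun x => by
    simp only [← orderOf_dvd_iff_pow_eq_one]
    exact (o x).imp_right fun i => .inl (i.elim (·.trans (by norm_num)) (·.trans (by norm_num)))⟩ with ⟨i, a, b⟩ | ⟨a, b⟩ <;>
  rcases h.two (p := 5) (m := 1584) (by norm_num) ⟨cd, by norm_num, by norm_num, by norm_num, fun x => by
    simp only [← orderOf_dvd_iff_pow_eq_one]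
    rcases o x with i | i | i
    exacts [.inr (.inl (i.trans (by norm_num))), .inl i, .inr (.inl (i.trans (by norm_num)))]⟩ with ⟨j, c, d⟩ | ⟨c, d⟩
  · have : k ≤ 4 := by have : 1 ≤ j := by omega
                       nlinarith
    rcases this.eq_or_lt with rfl | c
    · obtain rfl : n = 1980 := by omega
      norm_num at e1 e2
      omega
    · exact .inr (h.lt3 nc (by omega))
  · have := Nat.le_of_dvd (by norm_num) c
    have := (by decide +kernel : ∀ n ∈ Nat.divisors 1584, n % 5 = 1 → n < 1440) n (by simp [c]) d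
    omega
  · have := Nat.le_of_dvd (by norm_num) a
    omega
  exact .inl ((by decide +kernel : ∀ n ∈ Nat.divisors 720, n % 11 = 1 → n % 5 = 1 → n = 1) n (by simp [a]) b d)

end H1.Fro
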