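import Cfsg.Agent.H1.Fro2
import Cfsg.Agent.H1.Harv1
import Cfsg.Agent.H16.FG
import Cfsg.Agent.H10.BR1
import Cfsg.Agent.H10.BT2
/-! Frobenius' conjecture for simple N-groups of Tits type (`tv_Ti`); Sylow 13-subgroups are self-centralising (`sc13`). -/
set_option autoImplicit false
set_option linter.unusedSectionVars false
set_option synthInstance.maxSize 2000
namespace H1.Fro
open Subgroup Function H326 Cfsg H26 H16.Ti H118

variable {G : Type*} [Group G] [Finite G] {n k r : ℕ} {w : G} {S V : Subgroup G}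

theorem dec {d : ℕ} (h : d ∣ 17971200) : ∃ a < 12, ∃ b < 4, ∃ c < 3, ∃ e < 2, d = 2 ^ a * 3 ^ b * 5 ^ c * 13 ^ e := by
  rw [show 17971200 = 2 ^ 11 * 3 ^ 3 * 5 ^ 2 * 13 ^ 1 by norm_num] at h
  obtain ⟨u, v, i, h4, rfl⟩ := Nat.dvd_mul.1 h
  obtain ⟨u', v', j, h3, rfl⟩ := Nat.dvd_mul.1 i
  obtain ⟨u'', v'', l, h2, rfl⟩ := Nat.dvd_mul.1 j
  obtain ⟨a, a1, rfl⟩ := (Nat.dvd_prime_pow Nat.prime_two).1 l
  obtain ⟨b, b1, rfl⟩ := (Nat.dvd_prime_pow Nat.prime_three).1 h2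
  obtain ⟨c, c1, rfl⟩ := (Nat.dvd_prime_pow Nat.prime_five).1 h3
  obtain ⟨e, e1, rfl⟩ := (Nat.dvd_prime_pow (by norm_num : (13).Prime)).1 h4
  exact ⟨a, by omega, b, by omega, c, by omega, e, by omega, rfl⟩

theorem sq_dvd_cen (hr : r.Prime) (hw : orderOf w = r) (h : r ^ 2 ∣ Nat.card G) :
    r ^ 2 ∣ Nat.card (centralizer ({w} : Set G)) := by
  have := Fact.mk hr
  obtain ⟨K, c, l⟩ := Sylow.exists_subgroup_card_pow_prime_le r h (zpowers w) (n := 1)
    (by rw [Nat.card_zpowers, hw, pow_one]) one_le_two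
  have m := IsPGroup.isMulCommutative_of_card_eq_prime_sq c
  exact c ▸ card_dvd_of_le fun x hx => mem_centralizer_singleton_iff.2
    (congrArg Subtype.val (m.is_comm.comm ⟨x, hx⟩ ⟨w, l (mem_zpowers w)⟩))

instance f13 : Fact (Nat.Prime 13) := ⟨by norm_num⟩

theorem loc13 (h : NG G) (cd : Nat.card G = 17971200) (P : Sylow 13 G) (hr : r = 3 ∨ r = 5)
    (d : r ∣ Nat.card (centralizer ((P : Subgroup G) : Set G))) :
    r ^ 2 ∣ Nat.card (normalizer ((P : Subgroup G) : Set G)) := by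
  have rp : r.Prime := by rcases hr with rfl | rfl <;> norm_num
  obtain ⟨w, hw, ow⟩ := H18.cauchy rp d
  have s : H18.Solv (centralizer ({w} : Set G)) := H18.Solv.of_le (h.loc _ ⟨r, zpowers w, rp,
    have := Fact.mk rp; IsPGroup.of_card (n := 1) (by rw [Nat.card_zpowers, ow, pow_one]),
    fun e => rp.ne_one (by rw [← ow, zpowers_eq_bot.1 e, orderOf_one]), rfl⟩)
    (centralizer_zpowers w ▸ centralizer_le_normalizer _)
  obtain ⟨l, l1, l2⟩ := H1.exists_list_hall s ((H18.hall_sylow_top f13.out P).of_le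
    (fun x hx => mem_centralizer_singleton_iff.2 (hw x hx)) le_top)
  have q := sq_dvd_cen rp ow (by rcases hr with rfl | rfl <;> norm_num [cd])
  have m := H26.card_mul_relIndex (normalizer ((P : Subgroup G) : Set G)) (centralizer {w})
  have dG := cd ▸ card_subgroup_dvd_card (centralizer ({w} : Set G))
  have cP := H10.card_sylow_eq_prime (m := 1382400) cd (by norm_num) P
  have l3 : ∀ x ∈ l, x = 1 ∨ x = 27 := fun x hx => by
    obtain ⟨⟨p, -, pi⟩, -, s, s1, s2, s3⟩ := l2 x hx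
    obtain rfl := (Nat.prime_dvd_prime_iff_eq s1 f13.out).1 (cP ▸ s2)
    obtain ⟨a, a1, b, b1, c, c1, e, e1, rfl⟩ := dec (((l1 ▸ List.dvd_prod hx).trans (Dvd.intro_left _ m)).trans dG)
    have := (by decide +kernel : ∀ a < 12, ∀ b < 4, ∀ c < 3, ∀ e < 2, ∀ x ∈ [2 ^ a * 3 ^ b * 5 ^ c * 13 ^ e],
      x % 13 = 1 → (x = 1 ∨ x = 27) ∨ 2 ∣ x ∧ 3 ∣ x ∨ 2 ∣ x ∧ 5 ∣ x ∨ 3 ∣ x ∧ 5 ∣ x) a a1 b b1 c c1 e e1 _
      (List.mem_singleton_self _) s3
    have a2 := pi.eq_of_dvd Nat.prime_two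
    have a3 := pi.eq_of_dvd Nat.prime_three
    have a5 := pi.eq_of_dvd Nat.prime_five
    omega
  refine ((Nat.Coprime.pow_left 2 ?_).dvd_of_dvd_mul_right (m ▸ q)).trans (card_dvd_of_le inf_le_left)
  rw [← l1, Nat.coprime_list_prod_right_iff]
  intro x hx
  rcases l3 x hx with rfl | rfl
  · simp
  rcases hr with rfl | rfl
  swap
  · norm_num
  have : 3 ∣ Nat.card ↥(normalizer ((P : Subgroup G) : Set G) ⊓ centralizer {w}) :=
    ow ▸ H18.orderOf_dvd_card ⟨centralizer_le_normalizer _ hw, mem_centralizer_singleton_iff.2 rfl⟩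
  have := (Nat.mul_dvd_mul this (l1 ▸ List.dvd_prod hx)).trans (m ▸ dG)
  omega

theorem sc13 (T : Ti S V) (cd : Nat.card G = 17971200) (P : Sylow 13 G) : H10.SC P := by
  have := T.ng.simple
  have hP := H10.card_sylow_eq_prime (m := 1382400) cd (by norm_num) P
  have h := H10.card_sylow_mul_eq P
  have e1 := H10.relIndex_centralizer_ne_one (H10.commutator_eq_top_of_simple T.ng.nc) P (by rw [cd]; norm_num)
  have e2 := H10.relIndex_centralizer_dvd hP
  have n2 := card_sylow_modEq_one 13 G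
  obtain ⟨c, hc⟩ := card_dvd_of_le (H10.comm_of_card_prime hP)
  have c2 : ¬ 2 ∣ c := fun d => by
    obtain ⟨t, ht, ot⟩ := H18.cauchy Nat.prime_two (hc ▸ d.mul_left _)
    have ch := fr_charP_c T.toFr (Y := zpowers t) (IsPGroup.of_card (n := 1) (by rw [Nat.card_zpowers, ot, pow_one]))
      fun e => by simp [zpowers_eq_bot.1 e] at ot
    have le : (P : Subgroup G) ≤ centralizer (zpowers t : Set G) :=
      centralizer_zpowers t ▸ fun x hx => mem_centralizer_singleton_iff.2 (ht x hx)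
    have i := isPGroup_pCoreOf 2 (centralizer (zpowers t : Set G))
    have m := H3.card_modEq_card_inf_centralizer P.2 (le.trans (le_normalizer_pCoreOf 2 _))
    unfold CharPOf at ch
    generalize pCoreOf 2 (centralizer (zpowers t : Set G)) = R at *
    obtain ⟨a, ha⟩ := IsPGroup.iff_card.1 i
    obtain ⟨b, hb⟩ := IsPGroup.iff_card.1 (i.to_inf_left (K := centralizer ((P : Subgroup G) : Set G)))
    have k : ∀ a, 2 ^ a ∣ Nat.card G → a < 12 := fun a j => by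
      by_contra! l
      have := cd ▸ (pow_dvd_pow 2 l).trans j
      omega
    have := (by decide +kernel : ∀ a < 12, ∀ b < 12, 2 ^ a % 13 = 2 ^ b % 13 → a = b) a (k a (ha ▸ card_subgroup_dvd_card R))
      b (k b (hb ▸ card_subgroup_dvd_card _)) (by rw [← ha, ← hb]; exact m)
    have := inf_eq_left.1 (eq_of_le_of_card_ge inf_le_left (by rw [ha, hb, this]))
    have := card_dvd_of_le ((le_inf le (le_centralizer_iff.1 this)).trans ch)
    rw [hP, ha] at this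
    exact absurd (f13.out.dvd_of_dvd_pow this) (by norm_num)
  have c3 := loc13 T.ng cd P (.inl rfl)
  have c5 := loc13 T.ng cd P (.inr rfl)
  rw [← card_mul_relIndex_of_le (centralizer_le_normalizer _), hc, hP] at c3 c5
  rw [hc, hP, cd] at h
  generalize relIndex (G := G) _ _ = e at *
  have d : e * c ∣ 1382400 := Dvd.intro_left (Nat.card (Sylow 13 G)) (by linarith)
  have k := (by decide +kernel : ∀ c ∈ Nat.divisors 675, ∀ e ∈ Nat.divisors 12, e ≠ 1 → e * c ∣ 1382400 →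
    1382400 / (e * c) % 13 = 1 → (3 ∣ 13 * c → 3 ^ 2 ∣ 13 * c * e) → (5 ∣ 13 * c → 5 ^ 2 ∣ 13 * c * e) → c = 1) c
    (Nat.mem_divisors.2 ⟨(Nat.Coprime.pow_right 11 ((Nat.coprime_two_right.2 (Nat.odd_iff.2 (by omega))))).dvd_of_dvd_mul_left
      (dvd_of_mul_left_dvd d), by norm_num⟩) e (Nat.mem_divisors.2 ⟨e2, by norm_num⟩) e1 d (by
      rw [Nat.div_eq_of_eq_mul_left (k := Nat.card (Sylow 13 G)) (Nat.pos_of_dvd_of_pos d (by norm_num)) (by linarith)]
      exact n2) c3 c5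
  exact ⟨hP, (eq_of_le_of_card_ge (H10.comm_of_card_prime hP) (by rw [hc, k, mul_one])).symm⟩

theorem ti_loc (T : Ti S V) : (∀ y : G, orderOf y ≠ 2 ^ 6) ∧
    (∃ z : G, z ≠ 1 ∧ z ^ 2 = 1 ∧ Nat.card (centralizer ({z} : Set G)) ≤ 20480) ∧
    ∃ y : G, y ≠ 1 ∧ y ^ 10 = 1 ∧ Nat.card (centralizer ({y} : Set G)) ≤ 320 := by
  obtain ⟨z, h⟩ := exists_ge T.toF4
  obtain ⟨ρ, p, rfl, -, mU, -, mS⟩ := exPt T h
  have cU : Nat.card (centralizer (fU S V : Set G)) ≤ 64 := by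
    rw [← card_mul_relIndex_of_le T.ab, T.cardU]
    linarith [T.idxU]
  refine ⟨fun y hy => ?_, ⟨ρ o, h.z1, (pow_two _).trans (p.sq _), ?_⟩, ?_⟩
  · obtain ⟨Q, l⟩ := (IsPGroup.of_card (p := 2) (G := zpowers y) (by rw [Nat.card_zpowers, hy])).exists_le_sylow
    let x := Q.equiv T.syl.toSylow ⟨y, l (mem_zpowers y)⟩
    obtain ⟨_, _, a⟩ := (mS x).1 x.2
    have := orderOf_dvd_of_pow_eq_one (p.pow160 a)
    rw [orderOf_coe, MulEquiv.orderOf_eq, orderOf_mk, hy] at this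
    omega
  · rw [← centralizer_zpowers, ← h.fH_eq, ← card_mul_relIndex_of_le (pCoreOf_le 2 _), T.idx,
      ← card_mul_relIndex_of_le T.leC, T.idxC]
    omega
  obtain ⟨g, a⟩ := p.su 1 1 0 (by decide) rfl
  have A2 : ∀ k : ℕ, A ρ (g ^ k) 1 k 0 := fun k => by
    induction k with
    | zero => simpa using A.one
    | succ k ih => exact pow_succ g k ▸ (ih.mul a).cast (one_mul _) (by push_cast; ring) (add_zero _)
  have e5 : (g ^ 32) ^ 5 = 1 := by rw [← pow_mul]; exact p.pow160 a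
  have c : Commute (ρ o) (g ^ 32) := (mul_inv_eq_iff_eq_mul.1 (A2 32).fix).symm
  have z2 : ρ o ^ 2 = 1 := (pow_two _).trans (p.sq _)
  have y5 : (ρ o * g ^ 32) ^ 5 = ρ o := by rw [c.mul_pow, e5, mul_one, pow_eq_pow_mod 5 z2, pow_one]
  have y6 : (ρ o * g ^ 32) ^ 6 = g ^ 32 := by
    rw [c.mul_pow, pow_eq_pow_mod 6 z2, pow_eq_pow_mod 6 e5, pow_zero, pow_one, one_mul]
  refine ⟨ρ o * g ^ 32, fun e => h.z1 (by rw [← y5, e, one_pow]), by rw [show 10 = 5 * 2 from rfl, pow_mul, y5, z2], ?_⟩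
  let f : ZMod 5 × centralizer (fU S V : Set G) → G := fun u => g ^ u.1.val * u.2
  have s : (centralizer {ρ o * g ^ 32} : Set G) ⊆ Set.range f := fun x hx => by
    have hx : Commute x (ρ o * g ^ 32) := mem_centralizer_singleton_iff.1 hx
    obtain ⟨α, β, φ, b⟩ := p.ex x (mul_inv_eq_iff_eq_mul.2 (y5 ▸ hx.pow_right 5).eq)
    have u := p.uniq (b.mul (A2 32)) ((y6 ▸ hx.pow_right 6).eq ▸ (A2 32).mul b)
    obtain ⟨rfl, rfl⟩ := (by decide +kernel : ∀ α β φ, H16.Ti.sm φ = 0 → 1 * β + ((32 : ℕ) : ZMod 5) = α * (32 : ℕ) + β →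
      φ + pm α β 0 = 0 + pm 1 (32 : ℕ) φ → α = 1 ∧ φ = 0) α β φ b.2.1 u.2.1 u.2.2
    have d := ((A2 β.val).cast rfl (ZMod.natCast_zmod_val β) rfl).div b
    exact ⟨(β, ⟨_, fun u hu => by obtain ⟨b, rfl⟩ := (mU u).1 hu; exact (d.comm b).symm⟩), mul_inv_cancel_left _ _⟩
  have := (Set.ncard_le_ncard s).trans (Finite.card_range_le f)
  rw [Nat.card_prod, Nat.card_zmod] at this
  exact this.trans (by omega)

theorem tv_Ti (T : Ti S V) : Tv G := tv_of fun n k h => by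
  have := T.ng.simple
  have cd := H16.fg2 G S V T
  obtain ⟨P⟩ : Nonempty (Sylow 13 G) := inferInstance
  obtain ⟨o, ⟨z, z1, z2, z3⟩, y, y1, y2, y3⟩ := ti_loc T
  have m := h.mul
  rw [cd] at m
  have f : 2 ∣ k → ¬ 2 ^ 5 ∣ n := fun a b => let ⟨y, e⟩ := h.elt Nat.prime_two a b; o y e
  rcases h.two (m := 1382400) f13.out ⟨cd, by norm_num, by norm_num, by norm_num, fun x => by
    simp only [← orderOf_dvd_iff_pow_eq_one]
    by_cases d : 13 ∣ orderOf x
    · exact .inl ((sc13 T cd P).ord_eq d).dvd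
    · exact .inr (.inl (((Nat.Prime.coprime_iff_not_dvd f13.out).2 d).symm.dvd_of_dvd_mul_left
        (cd ▸ orderOf_dvd_natCard x :)))⟩ with ⟨i, a, b⟩ | ⟨a, b⟩
  · have : k ≤ 6 := by have : 2 ≤ i := by omega
                       nlinarith
    have := h.prime T.ng.nc
    have := h.k0
    interval_cases k <;> first | exact .inr rfl | omega | norm_num at *
  obtain ⟨s, a1, t, b1, c, c1, e, e1, rfl⟩ := dec (a.trans (by norm_num))
  rcases (by decide +kernel : ∀ a < 12, ∀ b < 4, ∀ c < 3, ∀ e < 2, ∀ x ∈ [2 ^ a * 3 ^ b * 5 ^ c * 13 ^ e],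
    x % 13 = 1 → x ∣ 3 ^ 3 ∨ 2 ∣ x ∧ x ≤ 800 ∨ 10 ∣ x ∧ x ≤ 50000 ∨ 2 ^ 5 ∣ x ∧ 2 ∣ 17971200 / x)
    s a1 t b1 c c1 e e1 _ (List.mem_singleton_self _) b with i | ⟨⟨j, i⟩, l⟩ | ⟨⟨j, i⟩, l⟩ | ⟨i, l⟩
  · exact h.pp Nat.prime_three i
  · have := h.cen z1 (by rw [i, pow_mul, z2, one_pow])
    nlinarith
  · have := h.cen y1 (by rw [i, pow_mul, y2, one_pow])
    nlinarith
  · rw [m, Nat.mul_div_cancel_left _ h.n0] at l
    exact absurd i (f l)

end H1.Fro
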