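import Cfsg.Agent.H1.Fro3
import Cfsg.Agent.H1.Fro4
import Cfsg.Agent.H26.NEnd
/-! Frobenius' conjecture for simple N-groups (`tv_ng`); `ng_class'`: the list of simple N-groups with the local structure
`Ti` in the Tits case. -/
set_option autoImplicit false
set_option linter.unusedSectionVars false
set_option synthInstance.maxSize 2000
namespace H1.Fro
open Subgroup Function H326 Cfsg H26
open scoped MatrixGroups
universe u

variable {G : Type u} [Group G] [Finite G]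

theorem ng_class' (h : NG G) :
    (∃ (F : Type) (_ : Field F) (_ : Fintype F), 4 ≤ Fintype.card F ∧ Nonempty (G ≃* PSL(2, F))) ∨ Lie.IsoSuzuki G ∨
    Nonempty (G ≃* PSL(3, ZMod 3)) ∨
    (∃ (F : Type) (_ : Field F) (_ : Fintype F), Fintype.card F = 9 ∧ Nonempty (G ≃* PSU 3 F 3)) ∨
    Nonempty (G ≃* alternatingGroup (Fin 7)) ∨ Nat.card G = 7920 ∨ ∃ S V : Subgroup G, Ti S V := by
  have := h.simple
  obtain ⟨S⟩ : Nonempty (Sylow 2 G) := inferInstance
  by_cases r : PRankLE 2 2 G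
  · have := Fintype.ofFinite (GaloisField 2 4)
    have hF : Fintype.card (GaloisField 2 4) = 16 := by
      rw [← Nat.card_eq_fintype_card, GaloisField.card 2 4 (by norm_num)]; rfl
    obtain ⟨P⟩ : Nonempty (Sylow 2 (PSU 3 (GaloisField 2 4) 4)) := inferInstance
    rcases Cfsg.Agent.S0516.result h.nc r S hF P with ⟨n, -, ⟨e⟩⟩ | k | k | k
    · rcases H22.gw_sylow h.nc S e with ⟨F, _, _, -, k, f⟩ | f
      · exact .inl ⟨F, _, _, k, f⟩
      · exact .inr (.inr (.inr (.inr (.inl f))))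
    · obtain ⟨k, x, y, q⟩ := H22.exists_qd k
      have := H22.NG.cent h q.mc.orderOf_u
      obtain ⟨π, c⟩ := H22.cz_sd q (H22.simple_no2 h.nc)
      exact .inr (.inr ((H2.id_sd c).imp_right fun e => .inr (.inr (.inl e))))
    · exact .inr (.inr (.inr (.inl (H22.n1b G h S k))))
    · obtain ⟨_, k⟩ := H2.lyons_se hF S P k
      exact (ng_se h k).imp_right Or.inl
  rcases H17.dich_simple (fun t ht => H17.pLay_C1_of_solv (H22.NG.cent h ht)) r with c | ⟨_, c⟩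
  · by_cases k : ∀ M : Subgroup G, IsTwoLocal M → ∃ L : Subgroup G, IsTwoLocal L ∧ (S : Subgroup G) ≤ L ∧ ¬ L ≤ M
    · exact .inr (.inr (.inr (.inr (.inr (.inr (n4_of2 (fa2_of H16.afp (H21.asm anf)) H9.fb H120.fc H6.fd1 H27.fd2 H118.fe
        H13.ff H27.fm (P := fun G _ => ∃ S V : Subgroup G, Ti S V) (fun G _ _ S V T => ⟨S, V, T⟩) G h r c S k))))))
    · push Not at k
      obtain ⟨M, k1, k2⟩ := k
      obtain ⟨_, k⟩ := H118.n3 G h r c S M k1 k2
      exact (ng_se h k).imp_right Or.inl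
  · exact (ng_se h c).imp_right Or.inl

theorem tv_ng [IsSimpleGroup G] (h : IsNGroup G) : Tv G := by
  by_cases nc : IsMulCommutative G
  · let _ : CommGroup G := { (inferInstance : Group G) with mul_comm := nc.is_comm.comm }
    exact fun n a _ => (Nat.dvd_prime (IsSimpleGroup.prime_card (α := G))).1 a
  rcases ng_class' ⟨‹_›, nc, h⟩ with ⟨F, _, _, k, ⟨e⟩⟩ | ⟨F, _, _, m, hm, hF, ⟨e⟩⟩ | ⟨⟨e⟩⟩ | ⟨F, _, _, k, ⟨e⟩⟩ | ⟨⟨e⟩⟩ | k |
    ⟨S, V, T⟩
  · obtain ⟨p, _, j, hp, c⟩ := FiniteField.card' F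
    by_cases p2 : p = 2
    · subst p2
      have j2 : 2 ≤ (j : ℕ) := by
        by_contra! i
        interval_cases (j : ℕ) <;> omega
      have t := (psl_ev j2 c).1.equiv e
      obtain ⟨q, hq⟩ : ∃ q, q + 1 = 2 ^ (j : ℕ) := ⟨2 ^ (j : ℕ) - 1, by omega⟩
      exact tv_ev nc hq (by omega) (by simpa only [← hq, Nat.add_sub_cancel] using t)
    have o : Odd (Fintype.card F) := c ▸ (hp.odd_of_ne_two p2).pow
    obtain ⟨a, b, _, _, t⟩ := psl_od o (by rw [Nat.odd_iff] at o; omega)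
    exact (tv_od t.toOd).equiv e
  · have sp := fun x : G => (H13.sp_sz hm hF).1 ⟨e x, e.orderOf_eq x⟩
    have cd := (Nat.card_congr e.toEquiv).trans (H13.card_sz hm hF)
    obtain ⟨s, hs⟩ : ∃ s, 2 ^ m = s + 1 := ⟨2 ^ m - 1, by have := Nat.two_pow_pos m; omega⟩
    have s1 : 1 ≤ s := by have := Nat.pow_le_pow_right two_pos hm; omega
    have e1 : 2 ^ (2 * m + 1) = 2 * (s + 1) ^ 2 := by rw [← hs]; ring
    have e2 : 2 ^ (m + 1) = 2 * (s + 1) := by rw [← hs]; ring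
    have e3 : 2 * (s + 1) ^ 2 - 1 = 2 * (s ^ 2 + 2 * s) + 1 := Nat.sub_eq_of_eq_add (by ring)
    have e4 : 2 * (s + 1) ^ 2 - 2 * (s + 1) = 2 * (s ^ 2 + s) := Nat.sub_eq_of_eq_add (by ring)
    have e5 : 2 * (s + 1) ^ 2 + 2 * (s + 1) = 2 * (s ^ 2 + 3 * s + 2) := by ring
    have hQ : (2 * (s + 1) ^ 2) ^ 2 = 2 ^ ((2 * m + 1) * 2) := by rw [pow_mul, e1]
    simp only [e1, e2, e3, e4, e5] at sp cd
    have od : ∀ j x, (2 ^ j).Coprime (2 * x + 1) := fun j x => (Nat.coprime_two_left.2 ⟨x, rfl⟩).pow_left j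
    have ab : (2 * (s ^ 2 + 2 * s) + 1).Coprime ((2 * (s ^ 2 + 3 * s + 2) + 1) * (2 * (s ^ 2 + s) + 1)) := by
      rw [show (2 * (s ^ 2 + 3 * s + 2) + 1) * (2 * (s ^ 2 + s) + 1) =
        2 ^ 1 + (2 * (s ^ 2 + 2 * s) + 1) * (2 * (s ^ 2 + 2 * s) + 3) by ring,
        Nat.coprime_add_mul_left_right]
      exact (od 1 _).symm
    refine tv_quad nc hQ (by nlinarith) (by nlinarith) (by omega) (by rw [cd]; ring) (hQ ▸ od _ _) (hQ ▸ od _ _) (hQ ▸ od _ _)
      ab.coprime_mul_right_right ab.coprime_mul_left_right ?_ sp (Nat.modEq_iff_dvd.2 ?_) (Nat.modEq_iff_dvd.2 ?_)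
      (Nat.modEq_iff_dvd.2 ?_)
    · rw [show 2 * (s ^ 2 + 3 * s + 2) + 1 = 2 ^ (m + 2) + (2 * (s ^ 2 + s) + 1) by rw [pow_add, hs]; ring,
        Nat.coprime_add_self_left]
      exact od _ _
    all_goals push_cast
    · exact ⟨-(18 * s ^ 0 + 72 * s ^ 1 + 148 * s ^ 2 + 176 * s ^ 3 + 124 * s ^ 4 + 48 * s ^ 5 + 8 * s ^ 6), by ring⟩
    · exact ⟨-(8 * s ^ 1 + 24 * s ^ 2 + 48 * s ^ 3 + 52 * s ^ 4 + 32 * s ^ 5 + 8 * s ^ 6), by ring⟩
    · exact ⟨-(16 * s ^ 0 + 152 * s ^ 1 + 344 * s ^ 2 + 368 * s ^ 3 + 212 * s ^ 4 + 64 * s ^ 5 + 8 * s ^ 6), by ring⟩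
  · refine tv_L33 nc ((Nat.card_congr e.toEquiv).trans H2.Id.card_L33) fun x => ?_
    have h := H11.lu_psl (ι := Fin 3) (F := ZMod 3) 3
    rw [Nat.card_zmod, Fintype.card_fin] at h
    have := (h.three (A := 13) (B := 8) (C := 2) (by decide) (by decide) (by decide) (by decide) _).1 ⟨e x, e.orderOf_eq x⟩
    norm_num at this
    rcases this with i | i | i | i
    exacts [.inl i, .inr (i.trans (by norm_num)), .inr (i.trans (by norm_num)), .inr (i.trans (by norm_num))]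
  · have : CharP F 3 := charP_of_card_eq_prime_pow (f := 2) k
    refine tv_U33 nc ((Nat.card_congr e.toEquiv).trans ?_) fun x => ?_
    · have := Cfsg.Agent.S0280.result (q := 3) k 3 (by norm_num)
      simp [Finset.prod_range_succ, Nat.even_iff] at this
      omega
    have h := H11.lu_psu (F := F) (q := 3) (p := 3) (n := 3) (hF := k) (by decide)
    have := (h.three (A := 7) (B := 8) (C := 4) (by decide) (by decide) (by decide) (by decide) _).1 ⟨e x, e.orderOf_eq x⟩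
    norm_num at this
    rcases this with i | i | i | i
    exacts [.inl i, .inr (i.trans (by norm_num)), .inr (i.trans (by norm_num)), .inr (i.trans (by norm_num))]
  · refine tv_A7 nc ((Nat.card_congr e.toEquiv).trans ?_) fun x => ?_
    · have := two_mul_nat_card_alternatingGroup (α := Fin 7)
      rw [Nat.card_perm, Nat.card_fin, show Nat.factorial 7 = 5040 from rfl] at this
      omega
    obtain ⟨c, c1, c2, c3, c4⟩ := H16.alt_spec.1 ⟨e x, e.orderOf_eq x⟩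
    rw [← c4]
    have := Multiset.card_nsmul_le_sum c2
    rw [smul_eq_mul] at this
    rcases (by omega : c.card = 0 ∨ c.card = 1 ∨ c.card = 2 ∨ c.card = 3) with i | i | i | i
    · simp [Multiset.card_eq_zero.1 i]
    · obtain ⟨a, rfl⟩ := Multiset.card_eq_one.1 i
      exact (by decide : ∀ a < 8, 2 ≤ a → Even (a + 1) → a ∣ 7 ∨ a ∣ 5 ∨ a ∣ 12) _ (by simpa [Nat.lt_succ_iff] using c1)
        (by simpa using c2) (by simpa using c3)
    · obtain ⟨a, b, rfl⟩ := Multiset.card_eq_two.1 i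
      simp at c1 c2 c3 ⊢
      exact (by decide : ∀ a < 8, ∀ b < (8 : ℕ), 2 ≤ a ∧ 2 ≤ b → a + b ≤ 7 → Even (a + b + 2) →
        lcm a b ∣ 7 ∨ lcm a b ∣ 5 ∨ lcm a b ∣ 12) a (by omega) b (by omega) c2 c1 c3
    · obtain ⟨a, b, d, rfl⟩ := Multiset.card_eq_three.1 i
      simp at c1 c2 c3 ⊢
      exact (by decide : ∀ a < 4, ∀ b < 4, ∀ d < (4 : ℕ), 2 ≤ a ∧ 2 ≤ b ∧ 2 ≤ d → a + (b + d) ≤ 7 →
        lcm a (lcm b d) ∣ 12) a (by omega) b (by omega) d (by omega) c2 c1 |> .inr |> .inr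
  · obtain ⟨P⟩ : Nonempty (Sylow 11 G) := inferInstance
    obtain ⟨Q⟩ : Nonempty (Sylow 5 G) := inferInstance
    refine tv_M11 nc k fun x => ?_
    by_cases a : 11 ∣ orderOf x
    · exact .inl ((H2.M11.syl11 k P).1.ord_eq a).dvd
    by_cases b : 5 ∣ orderOf x
    · exact .inr (.inl ((H2.M11.syl5 k Q).1.ord_eq b).dvd)
    exact .inr (.inr ((by decide +kernel : ∀ d ∈ Nat.divisors 7920, ¬ 11 ∣ d → ¬ 5 ∣ d → d ∣ 144) _
      (Nat.mem_divisors.2 ⟨k ▸ orderOf_dvd_natCard x, by norm_num⟩) a b))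
  · exact tv_Ti T

end H1.Fro
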