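import Cfsg.Agent.H1.Harv2
import Cfsg.Agent.H1.Hol
import Cfsg.Agent.H1.FTCor
import Cfsg.Agent.H4.PSol

/-! `π`-closed groups (`closed_iff`, `Homog`, `closed_ext`), `PiSep {p}` versus `IsPSolvable`
(`isPSolvable_iff_piSep`), cyclic Sylow subgroups (`cyc_le_phi`, `cyc_piSep`). -/

set_option autoImplicit false
open Cfsg H18 Subgroup
open scoped commutatorElement Pointwise

namespace H1
universe u
variable {G : Type u} [Group G] [Finite G] {Q : Type*} [Group Q] {π : Set ℕ}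
  {A B H K L M P R S U V W X : Subgroup G} {x y g a b : G} {p q k : ℕ}

theorem hall_pcore_of_closed (hL : L ≤ K) (h : ∀ x ∈ K, x ∈ L ↔ PiElt π x) : Hall π O[π](K) K :=
  have c : PiGrp π L := piGrp_of_elt fun x hx => (h x (hL hx)).1 hx
  (hall_of_sylows hL c fun p hp hπ _ => (exists_sylow hp K).imp fun _ a =>
    ⟨a, fun x hx => (h x (a.le hx)).2 ((a.pi.elt hx).of_p hπ)⟩).pcore_hall
    (norm_iff.2 fun a ha b hb => (h _ (conj_mem le_N ha (hL hb))).2 ((c.elt hb).conj a))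

theorem closed_iff : (∃ L : Subgroup G, ∀ x, x ∈ L ↔ PiElt π x) ↔ Hall π O[π]((⊤ : Subgroup G)) ⊤ :=
  ⟨fun ⟨_, h⟩ => hall_pcore_of_closed le_top fun x _ => h x,
    fun h => ⟨_, fun _ => ⟨pcore_pi.elt, h.mem_of_nml pcore_nml.norm trivial⟩⟩⟩

theorem closed_sub_iff : (∃ L : Subgroup K, ∀ x, x ∈ L ↔ PiElt π x) ↔ Hall π O[π](K) K := by
  refine ⟨fun ⟨L, h⟩ => hall_pcore_of_closed (map_subtype_le L) fun x hx => ?_,
    fun h => ⟨O[π](K).subgroupOf K, fun x => ?_⟩⟩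
  · rw [PiElt, ← Subgroup.orderOf_mk x hx]
    exact Iff.trans ⟨by rintro ⟨y, a, rfl⟩; exact a, fun a => ⟨_, a, rfl⟩⟩ (h _)
  · rw [PiElt, ← Subgroup.orderOf_coe]
    exact ⟨pcore_pi.elt, h.mem_of_nml pcore_nml.norm x.2⟩

theorem piSep_of_idx (hK : K ⊴ L) (h1 : PiSep π K) (h : PiNat π (K.relIndex L) ∨ PiNat πᶜ (K.relIndex L)) : PiSep π L :=
  piSep_of_quo hK.norm (h.elim (fun h => piSep_of_pi ((piGrp_quo_iff hK.norm).2 h))
    fun h => piSep_of_pi' ((piGrp_quo_iff hK.norm).2 h)) h1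

theorem piSep_of_closed (h : Hall π O[π](K) K) : PiSep π K := piSep_of_idx pcore_nml (piSep_of_pi pcore_pi) (.inr h.idx)
theorem piSep_of_closed' (h : Hall πᶜ O[πᶜ](K) K) : PiSep π K :=
  piSep_of_idx pcore_nml (piSep_of_pi' pcore_pi) (.inl h.idx.of_compl_compl)

/-- `N(H) / C(H)` is a `π'`-group for every nontrivial `π'`-subgroup `H` -/
def Homog (π : Set ℕ) (G : Type*) [Group G] : Prop :=
  ∀ H : Subgroup G, H ≠ ⊥ → PiGrp πᶜ H → PiNat πᶜ (C(H).relIndex N(H))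

theorem homog_of_closed (h : Hall π O[π]((⊤ : Subgroup G)) ⊤) : Homog π G := fun H _ hH =>
  (h.nml_inf pcore_nml.norm (K := N(H)) le_top).idx.of_dvd (relIndex_dvd_left (cent_of_norm_coprime inf_le_right
    (norm_inf (le_top.trans pcore_nml.norm) (le_norm le_N)) (pcore_pi.inf_left.coprime hH)))

theorem closed_ext (hh : Homog π G) (hK : K ⊴ M) (h : Hall π O[π](K) K) (hi : PiNat π (K.relIndex M)) :
    Hall π O[π](M) M := by
  obtain ⟨H, hH⟩ := h.exists_compl pcore_nml.norm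
  have hM : Hall πᶜ H M := hH.of_idx hK.le hi.compl_compl
  by_cases e : H = ⊥
  · subst e
    have := hM.compl_of_eq_bot.of_compl_compl
    rw [pcore_eq_self this]; exact hall_self this
  have f := (piSep_of_closed h).compl.frattini_arg hK hH
  obtain ⟨L, hL⟩ := (hM.of_le (le_inf hM.le le_N) inf_le_left).exists_sd inf_le_right
  have l := (hL.hall_compl' (hM.of_le (le_inf hM.le le_N) inf_le_left)).pi
  have lM : L ≤ M := hL.le_right.trans inf_le_left
  have c : L ≤ C(H) := l.le_of_nml (hL.le_right.trans inf_le_right) nml_C_N (hh H e hH.pi)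
  have n : H ≤ N(O[π](K) ⊔ L) := norm_sup (hH.le.trans pcore_nml.norm) (cent_norm (cent_symm c))
  have s : O[π](K) ⊔ L ⊔ H = M := by
    rw [sup_assoc, sup_comm L, hL.sup]
    exact le_antisymm (sup_le hK.pcore.le inf_le_left) (f.ge.trans (sup_le ((h.sup_compl hH).ge.trans
      (sup_le_sup_left hL.le_left _)) le_sup_right))
  exact (s ▸ hall_of_sup (pcore_pi.sup_norm' l (lM.trans hK.pcore.norm)) hH.pi (.inr n)).pcore_hall
    (s.ge.trans (sup_le le_N n))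

theorem closed_ext' (hK : K ⊴ M) (h : Hall π O[π](K) K) (hi : PiNat πᶜ (K.relIndex M)) : Hall π O[π](M) M :=
  (h.of_idx hK.le hi).pcore_hall hK.pcore.norm

theorem piSep_top_iff : PiSep π (⊤ : Subgroup H) ↔ PiSep π H := by
  have e : mim (MonoidHom.id H) H = ⊤ := by rw [mim_id, subgroupOf_self]
  exact ⟨fun h => piSep_of_mim le_rfl (e ▸ h) (by rw [mker_id, inf_bot_eq]; exact piSep_of_pi .bot), fun h => e ▸ h.mim⟩

theorem isPSolvable_iff_piSep (hp : p.Prime) : IsPSolvable p G ↔ PiSep {p} (⊤ : Subgroup G) := by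
  haveI : Fact p.Prime := ⟨hp⟩
  refine ⟨fun ⟨_, S, h0, h1, hm, hn, h⟩ => piSep_of_chain S h0 h1 hm hn fun i => (h i).imp
    (fun ⟨m, e⟩ => e ▸ piNat_pow_self hp m) (piNat_compl_iff_coprime hp).2,
    fun h => H4.isPSolvable_of_pSol G fun K hK h1 h2 => by_contra fun e => ?_⟩
  obtain ⟨L, a, b, c | c⟩ := h K hK e
  · refine b (a.le.antisymm ((quo_eq_bot_iff a.norm).1 (((piGrp_quo_iff a.norm).2 c).solv.eq_bot_of_le_der ?_)))
    rw [← mim_comm a.norm a.norm, h1]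
  · refine b (a.le.antisymm (h2.ge.trans (H26.pElementClosure_le_iff.2 fun x hx k hk => ?_)))
    exact PiElt.mem_of_nml ((piNat_pow_self hp k).of_dvd (orderOf_dvd_of_pow_eq_one hk)) hx a c

theorem isPSolvable_sub_iff (hp : p.Prime) : IsPSolvable p H ↔ PiSep {p} H :=
  (isPSolvable_iff_piSep hp).trans piSep_top_iff

theorem cyc_le_phi (hc : Cyc P) (hP : PiGrp {p} P) (h : K < P) : K ≤ Φ(P) :=
  le_phi h.le fun M hM => (hc.total hP h.le hM.le).elim id fun e => ((hM.eq_or_eq e h.le).resolve_right h.ne).le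

theorem cyc_piSep (hp : p.Prime) (hP : Hall {p} P L) (hc : Cyc P) (hV : V ⊴ L) (hπ : PiGrp {p} V) (h : V ≠ ⊥) :
    PiSep {p} L :=
  have a : V ≤ P := hP.nml_le hV hπ
  have b : P ≤ L ⊓ C(V) := le_inf hP.le (cent_mono hc.abel le_rfl a)
  piSep_of_idx hV.cent (piSep_of_closed' (cyc_cent_pnil hp (hP.of_le b inf_le_left) hc fun e =>
    h (eq_bot_iff.2 (e ▸ le_inf a (cent_symm inf_le_right))))) (.inr (hP.idx_of_le b))

/-- Hall–Higman 1.2.3 -/
theorem PiSep.cent_pcore_le (hs : PiSep π H) (h : O[πᶜ](H) = ⊥) : H ⊓ C(O[π](H)) ≤ O[π](H) := by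
  by_contra e
  have n : H ⊓ C(O[π](H)) ⊴ H := pcore_nml.cent
  obtain ⟨U, a, b, c, d⟩ := ((hs.mono n.le).mim (f := coset O[π](H))).exists_norm
    (fun d => e ((quo_eq_bot_iff (n.le.trans pcore_nml.norm)).1 d)) n.mim.norm
  have u : U ⊴ H ⫽ O[π](H) := ⟨a.le.trans n.mim.le, c⟩
  rcases d with d | d
  · exact b (eq_bot_iff.2 ((le_pcore u d).trans pcore_quo_pcore.le))
  set M := (H ⊓ C(O[π](H))) ⊓ qpre O[π](H) U
  have m : M ⊴ H := n.inf (nml_qpre pcore_nml u)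
  have mU : M ⫽ O[π](H) = U := mim_inf_mpre_of_le a.le
  have hM : Hall π (O[π](H) ⊓ M) M := ⟨inf_le_right, pcore_pi.inf_left, by
    rw [relIndex_inf_right, ← card_quo (m.le.trans pcore_nml.norm), mU]; exact d⟩
  have hc : M ≤ C(O[π](H) ⊓ M) := cent_mono (inf_le_right : H ⊓ C(O[π](H)) ≤ _) inf_le_left inf_le_left
  obtain ⟨L, hL⟩ := hM.exists_sd (cent_norm hc)
  have l : L = ⊥ := eq_bot_iff.2 (((hL.hall_compl hM).eq_pcore (hL.sup.ge.trans (sup_le (cent_norm (cent_symm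
    (hL.le_right.trans hc))) le_N))).ge.trans (m.pcore_le_pcore.trans h.le))
  exact b (mU ▸ quo_eq_bot ((hL.eq_left_iff.2 l).ge.trans inf_le_left))

theorem le_pcore_of_comm_le_phi (hp : p.Prime) (hc : H ⊓ C(O[{p}](H)) ≤ O[{p}](H)) (hA : A ≤ H)
    (h : ⁅O[{p}](H), A⁆ ≤ Φ(O[{p}](H))) : A ≤ O[{p}](H) := by
  have n : Φ(O[{p}](H)) ⊴ H := pcore_nml.phi
  have k := nml_inf_mpre n.norm (norm_C ((pcore_nml (π := {p}) (H := H)).mim (f := coset Φ(O[{p}](H)))).norm)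
  refine le_trans (le_inf hA ((mim_le_iff (hA.trans n.norm)).1 (cent_symm
    ((comm_le_iff_quo phi_nml.norm (hA.trans n.norm)).1 h)))) (le_pcore k (piGrp_of_prime_elt fun x hx hq => ?_))
  by_contra e
  have z : zpowers x ≤ H := zpowers_le.2 hx.1
  have : x ∈ O[{p}](H) := hc ⟨hx.1, cent_of_comm_le_phi (z.trans pcore_nml.norm)
    ((PiElt.zpowers ((piNat_prime hq).2 e : PiElt {p}ᶜ x)).coprime' pcore_pi)
    ((comm_le_iff_quo phi_nml.norm (z.trans n.norm)).2 (cent_symm ((mim_le_iff (z.trans n.norm)).2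
      (zpowers_le.2 hx.2)))) (mem_zpowers x)⟩
  exact e ((piNat_prime hq).1 (pcore_pi.elt this))

omit [Finite G] in
theorem comm_zpowers_le (hg : g ∈ N(W)) (hP : P ≤ N(W)) (h : ∀ x ∈ P, ⁅g, x⁆ ∈ W) : ⁅zpowers g, P⁆ ≤ W := by
  rw [comm_le_iff_quo (zpowers_le.2 hg) hP, mim_zpowers hg, zpowers_le, mem_C]
  intro y hy
  obtain ⟨x, hx, rfl⟩ := (mem_quo hP).1 hy
  rw [eq_comm, ← commutatorElement_eq_one_iff_mul_comm, ← mfun_comm hg (hP hx)]
  exact cs_eq_one (h x hx)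

theorem isCyclic_mulAut (hp : p.Prime) (h : Nat.card X = p) : IsCyclic (MulAut X) := by
  haveI : Fact p.Prime := ⟨hp⟩
  haveI : IsCyclic X := cyc_of_prime (h ▸ hp)
  have e := IsCyclic.mulAutMulEquiv X
  rw [h] at e
  exact isCyclic_of_surjective e.symm e.symm.surjective

end H1
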