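import Cfsg.Agent.H1.Harv3
import Cfsg.Agent.H22.Basic

/-! Automorphisms of `p`-groups of bounded rank (`exists_dvd_of_not_cent`, `relIndex_phi_dvd_rank`,
`pnil_of_abel_rank`), class sizes (`exists_sylow_le_of_not_dvd`, `card_carrier`), Jordan's covering lemma
(`eq_of_forall_cj`), solvability from a normal `2`-complement (`solv_of_two_nil`). -/

set_option autoImplicit false
open Cfsg H18 Subgroup
open scoped commutatorElement Pointwise

namespace H1
universe u
variable {G : Type u} [Group G] [Finite G] {Q : Type*} [Group Q] {π : Set ℕ}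
  {A B H K L M P R S U V W X : Subgroup G} {x y g a b : G} {p q k n : ℕ}

theorem exists_dvd_of_not_cent (hp : p.Prime) (hP : PiGrp {p} P) (hi : Φ(P).relIndex P ∣ p ^ n) (hq : q.Prime)
    (hqp : q ≠ p) (hg : PiElt {q} g) (hn : g ∈ N(P)) (hc : g ∉ C(P)) : ∃ j, 1 ≤ j ∧ j ≤ n ∧ q ∣ p ^ j - 1 := by
  haveI : Fact p.Prime := ⟨hp⟩
  have n : zpowers g ≤ N(P) := zpowers_le.2 hn
  have n' := norm_phi n
  obtain ⟨l, hl⟩ := (hg.mfun (f := coset Φ(P)) (n' (mem_zpowers g))).eq_pow (orderOf_pos _).ne'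
  exact H3.exists_dvd_pow_sub_one_of_not_mem_centralizer (Q := P ⫽ Φ(P)) (by rwa [card_quo phi_nml.norm]) hq hqp hl
    (mim_norm n (mfun_mem_mim (mem_zpowers g))) fun f => hc (cent_of_comm_le_phi n
      ((hg.zpowers.p'_of_ne hqp).coprime' hP) ((comm_le_iff_quo phi_nml.norm n').2 (cent_symm (by
        rw [mim_zpowers (n' (mem_zpowers g))]; exact zpowers_le.2 f))) (mem_zpowers g))

theorem relIndex_phi_dvd_rank (hp : p.Prime) (hP : PiGrp {p} P) : Φ(P).relIndex P ∣ p ^ Group.rank P := by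
  haveI : Fact p.Prime := ⟨hp⟩
  obtain ⟨S, a, b⟩ := Group.rank_spec P
  rw [phi, relIndex, subgroupOf, comap_map_eq_self_of_injective P.subtype_injective]
  refine index_dvd_of_gen hP.isPGroup le_rfl (v := fun i => (S.equivFinOfCardEq a).symm i) (eq_top_iff.2 (b.ge.trans
    (le_sup_of_le_right (closure_mono fun x hx => ⟨S.equivFinOfCardEq a ⟨x, hx⟩, by simp⟩))))

theorem pnil_of_abel_rank (hp : p.Prime) (hP : Hall {p} P L) (ha : Abel P) (hi : Φ(P).relIndex P ∣ p ^ n)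
    (h : ∀ q j : ℕ, q.Prime → q ∣ Nat.card L → 1 ≤ j → j ≤ n → ¬ q ∣ p ^ j - 1) : Hall {p}ᶜ O[{p}ᶜ](L) L :=
  Burnside_normal_complement hp hP (le_of_pElts fun q hq x hx a => by
    by_cases e : q = p
    · exact ha ((hP.of_le (le_inf hP.le le_N) inf_le_left).mem_of_nml inf_le_right hx (e ▸ a))
    by_contra c
    obtain ⟨j, h1, h2, h3⟩ := exists_dvd_of_not_cent hp hP.pi hi hq e a hx.2 c
    obtain ⟨r, hr, b, rfl⟩ := a.exists_mem (by rintro rfl; exact c (one_mem _))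
    exact h _ j hq (b.trans (orderOf_dvd_card hx.1)) h1 h2 h3)

theorem solv_of_two_nil (h : Hall {2}ᶜ O[{2}ᶜ](L) L) : Solv L :=
  solv_of_quo pcore_nml.norm ((piGrp_quo_iff pcore_nml.norm).2 h.idx.of_compl_compl).solv (solv_of_two' pcore_pi)

theorem exists_sylow_le_of_not_dvd (hp : p.Prime) (hK : K ≤ L) (h : ¬ p ∣ K.relIndex L) : ∃ S, Hall {p} S L ∧ S ≤ K :=
  (exists_sylow hp K).imp fun _ a => ⟨a.of_idx hK ((piNat_compl_iff hp).2 h), a.le⟩

theorem ncard_carrier (x : G) : (ConjClasses.mk x).carrier.ncard = C1(x).index := by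
  rw [← ConjAct.orbit_eq_carrier_conjClasses, ← MulAction.index_stabilizer,
    centralizer_eq_comap_stabilizer]
  exact (index_comap_of_surjective _ ConjAct.toConjAct.surjective).symm

theorem eq_of_forall_cj (hH : H ≤ L) (h : ∀ x ∈ L, ∃ g ∈ L, x ∈ cj g H) : H = L :=
  hH.antisymm (subgroupOf_eq_top.1 (H22.eq_top_of_forall_conj_mem _ fun x => by
    obtain ⟨g, a, b⟩ := h x x.2
    exact ⟨⟨g, a⟩⁻¹, by simpa [mem_subgroupOf] using mem_cj.1 b⟩))

end H1
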