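import Cfsg.Agent.H15.Kl0
import Cfsg.Agent.H7.Sect

/-! Piece PA of S4606: if `k(B) - l(B) = 1`, nontrivial `p`-elements carrying a `B`-subsection are
conjugate and the local block has rank one (`H1.KlA.pA`). -/

set_option autoImplicit false

namespace H1.KlA

open H5 H7 Cfsg

universe u

variable {G : Type u} [Group G] [Finite G] {p : ℕ} [Fact p.Prime] {M : Ideal AlgInt} [PM p M]
  {B : Set (IrrCharacter G)}

theorem sum_le (hB : IsPBlock M B) (Y : Finset G) (hY : ∀ y ∈ Y, ∃ k, orderOf y = p ^ k)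
    (hY' : ∀ x ∈ Y, ∀ y ∈ Y, IsConj x y → x = y) : ∑ y ∈ Y, lr M p B y ≤ Nat.card B := by
  classical
  have := Fintype.ofFinite G
  let r : G → G := fun g => Quotient.out (ConjClasses.mk g)
  have hr : ∀ g, IsConj g (r g) := fun g =>
    ConjClasses.mk_eq_mk_iff_isConj.1 (Quotient.out_eq (ConjClasses.mk g)).symm
  have hr' : ∀ g h, IsConj g h → r g = r h := fun g h e => by
    simp only [r, ConjClasses.mk_eq_mk_iff_isConj.2 e]
  let Z := Finset.univ.filter fun g : G => (∃ k, orderOf g = p ^ k) ∧ r g = g ∧ ∀ y ∈ Y, ¬ IsConj g y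
  rw [card_eq_sum_lr (p := p) (isSat_of_isPBlock hB) (Y ∪ Z) (fun x hx => ?_) (fun g hg _ => ?_)
    fun x hx y hy e => ?_]
  · exact Finset.sum_le_sum_of_subset Finset.subset_union_left
  · rcases Finset.mem_union.1 hx with h | h
    · exact hY x h
    · exact (Finset.mem_filter.1 h).2.1
  · by_cases h : ∃ y ∈ Y, IsConj g y
    · obtain ⟨y, hy, e⟩ := h
      exact ⟨y, Finset.mem_union_left _ hy, e⟩
    · refine ⟨r g, Finset.mem_union_right _ (Finset.mem_filter.2 ⟨Finset.mem_univ _, ?_,
        (hr' _ _ (hr g)).symm, fun y hy e => h ⟨y, hy, (hr g).trans e⟩⟩), hr g⟩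
      obtain ⟨k, hk⟩ := hg
      obtain ⟨c, hc⟩ := isConj_iff.1 (hr g)
      refine ⟨k, ?_⟩
      rw [← hk, ← hc]
      exact (MulAut.conj c).orderOf_eq g
  · rcases Finset.mem_union.1 hx with h | h <;> rcases Finset.mem_union.1 hy with h' | h'
    · exact hY' x h y h' e
    · exact absurd e.symm ((Finset.mem_filter.1 h').2.2.2 x h)
    · exact absurd e ((Finset.mem_filter.1 h).2.2.2 y h')
    · rw [← (Finset.mem_filter.1 h).2.2.1, ← (Finset.mem_filter.1 h').2.2.1, hr' x y e]

theorem le_lr (hB : IsPBlock M B) {x : G} (hx : ∃ k, orderOf x = p ^ k)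
    {b : Set (IrrCharacter (Subgroup.centralizer ({x} : Set G)))}
    (hb : IsInducedBlock M (Subgroup.centralizer ({x} : Set G)) b B) :
    0 < blockRank p b ∧ blockRank p b ≤ lr M p B x := by
  refine ⟨blockRank_pos (isSat_of_isPBlock hb.1) (block_nonempty hb.1), ?_⟩
  rw [lr]
  refine Submodule.finrank_mono (Submodule.span_mono (Set.image_mono ?_))
  exact ((locSet_centralizer (p := p) hx).subset_indSet_iff hB).2 (isInducedBlock_iff_indB.1 hb) |>.2

theorem pA : H15.Kl.PA.{u} := by
  intro G _ _ p _ M hM B hB hk x y hx hy px py b b' hb hb'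
  classical
  haveI : PM p M := ⟨hM⟩
  have h1 : ∃ k, orderOf (1 : G) = p ^ k := ⟨0, by simp⟩
  have l1 := lr_one (p := p) (isSat_of_isPBlock hB)
  obtain ⟨a1, a2⟩ := le_lr hB px hb
  obtain ⟨b1, b2⟩ := le_lr hB py hb'
  have n1 : ∀ z : G, z ≠ 1 → ¬ IsConj 1 z := fun z hz e => hz (isConj_one_right.1 e)
  have n2 : ∀ z : G, z ≠ 1 → ¬ IsConj z 1 := fun z hz e => n1 z hz e.symm
  constructor
  · by_contra hc
    have hxy : x ≠ y := fun e => hc (e ▸ IsConj.refl x)
    have := sum_le (p := p) hB {1, x, y} (by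
      simp only [Finset.mem_insert, Finset.mem_singleton]
      rintro a (rfl | rfl | rfl) <;> assumption) (by
      simp only [Finset.mem_insert, Finset.mem_singleton]
      rintro a (rfl | rfl | rfl) c (rfl | rfl | rfl) e <;>
        first | rfl | exact absurd e (n1 _ ‹_›) | exact absurd e (n2 _ ‹_›) | exact absurd e hc
              | exact absurd e.symm hc)
    rw [Finset.sum_insert (by simp [hx.symm, hy.symm]), Finset.sum_pair hxy] at this
    omega
  · have := sum_le (p := p) hB {1, x} (by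
      simp only [Finset.mem_insert, Finset.mem_singleton]
      rintro a (rfl | rfl) <;> assumption) (by
      simp only [Finset.mem_insert, Finset.mem_singleton]
      rintro a (rfl | rfl) c (rfl | rfl) e <;>
        first | rfl | exact absurd e (n1 _ ‹_›) | exact absurd e (n2 _ ‹_›))
    rw [Finset.sum_pair hx.symm] at this
    omega

end H1.KlA
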