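import Cfsg.Agent.H29.Q0

/-! Piece F1 of S5680: the cyclic group of squares of rotations about a nonsingular vector of a
3-dimensional orthogonal space over `K` has order `(|K| ± 1) / 2` (`H1.Q3F.pF1`). -/

set_option autoImplicit false
set_option linter.unusedSectionVars false

namespace H1.Q3F

open Module H11 H11.PForm H29 H29.Q3

section conic
variable {K : Type*} [Field K]

/-- the conic `x² - δ z² = 1` -/
@[ext] structure N (δ : K) where
  x : K
  z : K
  e : x ^ 2 - δ * z ^ 2 = 1

variable {δ : K}

instance : Mul (N δ) := ⟨fun p q => ⟨p.x * q.x + δ * p.z * q.z, p.x * q.z + p.z * q.x, by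
  linear_combination (q.x ^ 2 - δ * q.z ^ 2) * p.e + q.e⟩⟩
instance : One (N δ) := ⟨⟨1, 0, by ring⟩⟩
instance : Inv (N δ) := ⟨fun p => ⟨p.x, -p.z, by linear_combination p.e⟩⟩
theorem mul_x (p q : N δ) : (p * q).x = p.x * q.x + δ * p.z * q.z := rfl
theorem mul_z (p q : N δ) : (p * q).z = p.x * q.z + p.z * q.x := rfl
theorem one_x : (1 : N δ).x = 1 := rfl
theorem one_z : (1 : N δ).z = 0 := rfl
theorem inv_x (p : N δ) : (p⁻¹).x = p.x := rfl
theorem inv_z (p : N δ) : (p⁻¹).z = -p.z := rfl

instance : CommGroup (N δ) where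
  mul_assoc p q r := by ext <;> simp only [mul_x, mul_z] <;> ring
  one_mul p := by ext <;> simp only [mul_x, mul_z, one_x, one_z] <;> ring
  mul_one p := by ext <;> simp only [mul_x, mul_z, one_x, one_z] <;> ring
  inv_mul_cancel p := by
    ext
    · simp only [mul_x, inv_x, inv_z, one_x]; linear_combination p.e
    · simp only [mul_z, inv_x, inv_z, one_z]; ring
  mul_comm p q := by ext <;> simp only [mul_x, mul_z] <;> ring

theorem z0 (hδ : δ ≠ 0) (p : N δ) (h : p.x ^ 2 = 1) : p.z = 0 := by
  have : δ * p.z ^ 2 = 0 := by linear_combination h - p.e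
  exact pow_eq_zero_iff (two_ne_zero) |>.1 ((mul_eq_zero.1 this).resolve_left hδ)

theorem cardN [Finite K] (h2 : (2 : K) ≠ 0) (hδ : δ ≠ 0) :
    Nat.card (N δ) = Nat.card K + 1 ∨ Nat.card (N δ) + 1 = Nat.card K := by
  classical
  by_cases hs : ∃ d, δ = d * d
  · right
    obtain ⟨d, rfl⟩ := hs
    have hd : d ≠ 0 := by rintro rfl; simp at hδ
    have f : N (d * d) ≃ Kˣ :=
      { toFun := fun p => ⟨p.x + d * p.z, p.x - d * p.z, by linear_combination p.e,
          by linear_combination p.e⟩
        invFun := fun u => ⟨(u.1 + u.2) / 2, (u.1 - u.2) / (2 * d), by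
          have := u.3; field_simp; linear_combination 4 * this⟩
        left_inv := fun p => by ext <;> simp only [] <;> field_simp <;> ring
        right_inv := fun u => by ext; simp only []; field_simp; ring }
    rw [Nat.card_congr f, Nat.card_units]
    have : 0 < Nat.card K := Nat.card_pos
    omega
  · left
    have hn : ∀ s : K, 1 - δ * s ^ 2 ≠ 0 := fun s e => by
      have hs0 : s ≠ 0 := by rintro rfl; simp at e
      exact hs ⟨s⁻¹, by field_simp; linear_combination -e⟩
    let g : Option K → N δ := fun o => match o with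
      | none => ⟨-1, 0, by ring⟩
      | some s => ⟨(1 + δ * s ^ 2) / (1 - δ * s ^ 2), 2 * s / (1 - δ * s ^ 2), by
          have := hn s; field_simp; ring⟩
    have k : ∀ s, 1 + (g (some s)).x = 2 / (1 - δ * s ^ 2) := fun s => by
      have := hn s; simp only [g]; field_simp; ring
    have k' : ∀ s, (g (some s)).z = s * (1 + (g (some s)).x) := fun s => by
      rw [k]; simp only [g]; ring
    have k0 : ∀ s, 1 + (g (some s)).x ≠ 0 := fun s => by
      rw [k]; exact div_ne_zero h2 (hn s)
    have hg : Function.Bijective g := by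
      constructor
      · rintro (_ | s) (_ | t) e
        · rfl
        · exact absurd (by rw [← e]; simp [g]) (k0 t)
        · exact absurd (by rw [e]; simp [g]) (k0 s)
        · have := k' s
          rw [e, k' t] at this
          rw [mul_right_cancel₀ (k0 t) this]
      · intro p
        by_cases hx : 1 + p.x = 0
        · have hx' : p.x = -1 := by linear_combination hx
          exact ⟨none, N.ext hx'.symm (z0 hδ p (by rw [hx']; ring)).symm⟩
        · have e1 : 1 - δ * (p.z / (1 + p.x)) ^ 2 = 2 / (1 + p.x) := by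
            field_simp; linear_combination p.e
          refine ⟨some (p.z / (1 + p.x)), N.ext ?_ ?_⟩
          · have := k (p.z / (1 + p.x))
            rw [e1] at this
            field_simp at this
            linear_combination this
          · simp only [g]; rw [e1]; field_simp
    rw [← Nat.card_eq_of_bijective g hg, Finite.card_option]

instance [Finite K] : Finite (N δ) :=
  Finite.of_injective (fun p : N δ => (p.x, p.z)) fun _ _ e =>
    N.ext (congrArg Prod.fst e) (congrArg Prod.snd e)

theorem card_sq [Finite K] (h2 : (2 : K) ≠ 0) (hδ : δ ≠ 0) :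
    2 * Nat.card (powMonoidHom 2 : N δ →* N δ).range = Nat.card (N δ) := by
  let m : N δ := ⟨-1, 0, by ring⟩
  have hm : m ≠ 1 := fun e => h2 (by
    have : (-1 : K) = 1 := congrArg N.x e
    linear_combination -this)
  have hk : ((powMonoidHom 2 : N δ →* N δ).ker : Set (N δ)) = {1, m} := by
    ext p
    simp only [SetLike.mem_coe, MonoidHom.mem_ker, powMonoidHom_apply, Set.mem_insert_iff,
      Set.mem_singleton_iff, pow_two]
    constructor
    · intro e
      have e1 : p.x * p.x + δ * p.z * p.z = 1 := congrArg N.x e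
      have e2 : p.x ^ 2 = 1 := mul_left_cancel₀ h2 (by linear_combination e1 + p.e)
      have e3 := z0 hδ p e2
      rcases sq_eq_one_iff_of_ne_zero e2 with h | h
      · exact Or.inl (N.ext h e3)
      · exact Or.inr (N.ext h e3)
    · rintro (rfl | rfl)
      · simp
      · ext <;> simp [mul_x, mul_z, one_x, one_z, m]
  have hc : Nat.card (powMonoidHom 2 : N δ →* N δ).ker = 2 := by
    have := Set.ncard_pair hm.symm
    rw [← hk] at this
    exact this
  have h1 := Subgroup.card_eq_card_quotient_mul_card_subgroup (powMonoidHom 2 : N δ →* N δ).ker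
  rw [hc, Nat.card_congr (QuotientGroup.quotientKerEquivRange _).toEquiv] at h1
  rw [h1, mul_comm]
where
  sq_eq_one_iff_of_ne_zero {a : K} (e : a ^ 2 = 1) : a = 1 ∨ a = -1 := by
    have : (a - 1) * (a + 1) = 0 := by linear_combination e
    rcases mul_eq_zero.1 this with h | h
    · left; linear_combination h
    · right; linear_combination h

end conic

section frame
variable {K V : Type*} [Field K] [AddCommGroup V] [Module K V] [FiniteDimensional K V]
  {U : PForm (orthP K) V}

theorem ex_perp (h3 : finrank K V = 3) (y a : V) : ∃ b, b ≠ 0 ∧ U.h y b = 0 ∧ U.h a b = 0 := by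
  have h := LinearMap.finrank_range_add_finrank_ker ((U.h y).prod (U.h a))
  have h1 := Submodule.finrank_le (LinearMap.range ((U.h y).prod (U.h a)))
  have h2 : finrank K (K × K) = 2 := by simp
  have : LinearMap.ker ((U.h y).prod (U.h a)) ≠ ⊥ := fun e => by
    rw [e, finrank_bot] at h; omega
  obtain ⟨b, hb, hb0⟩ := Submodule.exists_mem_ne_zero_of_ne_bot this
  have := LinearMap.mem_ker.1 hb
  exact ⟨b, hb0, congrArg Prod.fst this, congrArg Prod.snd this⟩

theorem frame (hS : U.Nondeg) (h2 : (2 : K) ≠ 0) (h3 : finrank K V = 3) {y : V} (hy : U.q y ≠ 0) :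
    ∃ a b, U.q a ≠ 0 ∧ U.q b ≠ 0 ∧ U.h y a = 0 ∧ U.h y b = 0 ∧ U.h a b = 0 ∧
      ∀ v, ∃ c d e : K, v = c • y + d • a + e • b := by
  have ha : ∃ a, U.q a ≠ 0 ∧ U.h y a = 0 := by
    by_contra hn
    push Not at hn
    have hn' : ∀ a, U.h y a = 0 → U.q a = 0 := fun a e => by
      by_contra k; exact hn a k e
    obtain ⟨b, hb0, hb, -⟩ := ex_perp (U := U) h3 y y
    refine hb0 (hS b fun v => ?_)
    have hw : U.h y (v - (U.h y v / (2 * U.q y)) • y) = 0 := by
      rw [map_sub, map_smul, U.orth_h_self, smul_eq_mul]; field_simp; ring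
    have e := U.orth_q_add b (v - (U.h y v / (2 * U.q y)) • y)
    rw [hn' _ (by rw [map_add, hb, hw, add_zero]), hn' _ hb, hn' _ hw, map_sub, map_smul,
      U.orth_symm y b, hb] at e
    simpa using e.symm
  obtain ⟨a, qa, ya⟩ := ha
  obtain ⟨b, hb0, yb, ab⟩ := ex_perp (U := U) h3 y a
  let f : (K × K × K) →ₗ[K] V :=
    (LinearMap.toSpanSingleton K V y).coprod
      ((LinearMap.toSpanSingleton K V a).coprod (LinearMap.toSpanSingleton K V b))
  have hf : ∀ c d e : K, f (c, d, e) = c • y + d • a + e • b := fun c d e => by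
    simp [f, add_assoc]
  have hi : Function.Injective f := by
    rw [injective_iff_map_eq_zero]
    rintro ⟨c, d, e⟩ k
    rw [hf] at k
    have k1 := congrArg (U.h y) k
    have k2 := congrArg (U.h a) k
    simp only [map_add, map_smul, ya, yb, ab, U.orth_symm y a, U.orth_h_self, smul_eq_mul, map_zero,
      mul_zero, add_zero, zero_add, mul_eq_zero, h2, hy, qa, or_false] at k1 k2
    subst k1 k2
    simp only [zero_smul, zero_add, smul_eq_zero, hb0, or_false] at k
    simp [k]
  have hs := (LinearMap.injective_iff_surjective_of_finrank_eq_finrank (by simp [h3])).1 hi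
  have sp : ∀ v, ∃ c d e : K, v = c • y + d • a + e • b := fun v => by
    obtain ⟨⟨c, d, e⟩, k⟩ := hs v
    exact ⟨c, d, e, by rw [← k, hf]⟩
  refine ⟨a, b, qa, fun qb => hb0 (hS b fun v => ?_), ya, yb, ab, sp⟩
  obtain ⟨c, d, e, rfl⟩ := sp v
  simp only [map_add, map_smul, U.orth_symm y b, U.orth_symm a b, yb, ab, U.orth_h_self, qb]
  simp

/-- rotation about `y` -/
noncomputable def rotL (U : PForm (orthP K) V) (y a b : V) (x z : K) : V →ₗ[K] V :=
  x • LinearMap.id + ((1 - x) / (2 * U.q y)) • (U.h y).smulRight y +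
    (z / 2) • ((U.h a).smulRight b - (U.h b).smulRight a)

theorem rotL_apply (h2 : (2 : K) ≠ 0) {y a b : V} (hy : U.q y ≠ 0) (ya : U.h y a = 0)
    (yb : U.h y b = 0) (ab : U.h a b = 0) (x z c d e : K) :
    rotL U y a b x z (c • y + d • a + e • b) =
      c • y + (d * x - e * z * U.q b) • a + (d * z * U.q a + e * x) • b := by
  simp only [rotL, LinearMap.add_apply, LinearMap.smul_apply, LinearMap.sub_apply,
    LinearMap.smulRight_apply, LinearMap.id_apply, map_add, map_smul, ya, yb, ab, U.orth_symm y a,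
    U.orth_symm y b, U.orth_symm a b, U.orth_h_self]
  match_scalars <;> field_simp <;> ring

theorem q_comb {y a b : V} (ya : U.h y a = 0) (yb : U.h y b = 0) (ab : U.h a b = 0) (c d e : K) :
    U.q (c • y + d • a + e • b) = c ^ 2 * U.q y + d ^ 2 * U.q a + e ^ 2 * U.q b := by
  simp [U.orth_q_add, U.orth_q_smul, ya, yb, ab]

end frame

variable {F K V : Type*} [Field F] [Field K] [Algebra F K] [AddCommGroup V] [Module F V]
  [Module K V] [IsScalarTower F K V] [FiniteDimensional F V] {S : PForm (orthP F) V}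
  [Finite F] [Finite K] {φ : Dual F K} {U : PForm (orthP K) V} {H : Subgroup S.Isom}

theorem pF1 (h : O3 φ U H) : F1 U H := by
  intro y hy
  haveI := h.toOX.fd
  have h2 := h.toOX.twoK
  have hS := h.toOX.ndK
  obtain ⟨a, b, qa, qb, ya, yb, ab, sp⟩ := frame hS h2 h.dim3 hy
  have R := rotL_apply h2 hy ya yb ab
  obtain ⟨δ, hδ'⟩ : ∃ δ : K, δ = -(U.q a * U.q b) := ⟨_, rfl⟩
  have hδ : δ ≠ 0 := hδ' ▸ neg_ne_zero.2 (mul_ne_zero qa qb)
  have hmul : ∀ (p q : N δ) v, rotL U y a b (p * q).x (p * q).z v =
      rotL U y a b p.x p.z (rotL U y a b q.x q.z v) := fun p q v => by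
    obtain ⟨c, d, e, rfl⟩ := sp v
    rw [R, R, R, mul_x, mul_z]
    match_scalars
    · ring
    · linear_combination (d * p.z * q.z) * hδ'
    · linear_combination (e * p.z * q.z) * hδ'
  have hone : ∀ v, rotL U y a b (1 : N δ).x (1 : N δ).z v = v := fun v => by
    obtain ⟨c, d, e, rfl⟩ := sp v
    rw [R, one_x, one_z]
    match_scalars <;> ring
  let r : N δ →* U.Isom :=
    { toFun := fun p => ⟨LinearEquiv.ofLinear (rotL U y a b p.x p.z) (rotL U y a b (p⁻¹).x (p⁻¹).z)
        (LinearMap.ext fun v => by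
          rw [LinearMap.comp_apply, ← hmul, mul_inv_cancel, hone]; rfl)
        (LinearMap.ext fun v => by
          rw [LinearMap.comp_apply, ← hmul, inv_mul_cancel, hone]; rfl),
        orth_isIsom (f := rotL U y a b p.x p.z) fun v => by
          obtain ⟨c, d, e, rfl⟩ := sp v
          rw [R, q_comb ya yb ab, q_comb ya yb ab]
          have : p.x ^ 2 + U.q a * U.q b * p.z ^ 2 = 1 := by linear_combination p.e + p.z ^ 2 * hδ'
          linear_combination (d ^ 2 * U.q a + e ^ 2 * U.q b) * this⟩
      map_one' := isom_ext fun v => hone v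
      map_mul' := fun p q => isom_ext fun v => hmul p q v }
  have hq : ∀ x, S.q x = φ (U.q x) := fun x => mul_left_cancel₀ h.two (by
    rw [← S.orth_h_self, ← h.hU, ← smul_eq_mul, ← map_smul, Algebra.smul_def, map_ofNat,
      ← U.orth_h_self])
  let ρ : U.Isom →* S.Isom :=
    { toFun := fun g => ⟨g.1.restrictScalars F, orth_isIsom
        (f := (g.1.restrictScalars F).toLinearMap) fun x => by
          rw [hq, hq]; exact congrArg φ (orth_isom_q g x)⟩
      map_one' := rfl
      map_mul' := fun _ _ => rfl }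
  have ap : ∀ (p : N δ) v, ((ρ.comp r) p).1 v = rotL U y a b p.x p.z v := fun _ _ => rfl
  have inj : Function.Injective (ρ.comp r) := by
    rw [injective_iff_map_eq_one]
    intro p e
    have e1 : rotL U y a b p.x p.z ((0 : K) • y + (1 : K) • a + (0 : K) • b) =
        (0 : K) • y + (1 : K) • a + (0 : K) • b := by rw [← ap, e]; rfl
    rw [R] at e1
    have k := congrArg (U.h a) e1
    simp only [map_add, map_smul, ab, U.orth_symm y a, ya, U.orth_h_self, smul_eq_mul] at k
    have kx : p.x = 1 := mul_right_cancel₀ (mul_ne_zero h2 qa) (by linear_combination k)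
    exact N.ext kx (z0 hδ p (by rw [kx]; ring))
  obtain ⟨e, f, Hy⟩ := hS.orth_exists_hyp h.three
  refine ⟨(powMonoidHom 2 : N δ →* N δ).range.map (ρ.comp r), ?_, ?_, ?_⟩
  · rintro _ ⟨_, ⟨p, rfl⟩, rfl⟩
    obtain ⟨g, hg, eg⟩ := h.hH (r p * r p) ((hS.mem_E_iff h.three Hy _).2 (by simp))
    have : (ρ.comp r) (powMonoidHom 2 p) = g := isom_ext fun v => by
      rw [eg, powMonoidHom_apply, pow_two, ← map_mul]; rfl
    rw [this]; exact hg
  · rw [Subgroup.card_map_of_injective inj, card_sq h2 hδ]
    exact cardN h2 hδ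
  · rintro _ ⟨p, -, rfl⟩
    refine ⟨2 * p.x, ⟨fun k v => ?_, ?_, fun w hw => ?_⟩, fun k => ?_⟩
    · rw [ap, ap, map_smul]
    · have := R p.x p.z 1 0 0
      simp only [one_smul, zero_smul, add_zero, zero_mul, sub_zero] at this
      rw [ap, this]
    · obtain ⟨c, d, e, rfl⟩ := sp w
      simp only [map_add, map_smul, ya, yb, U.orth_h_self, smul_eq_mul, mul_zero, add_zero,
        mul_eq_zero, h2, hy, or_false] at hw
      subst hw
      rw [ap, ap, R, R]
      refine ⟨by simp [ya, yb], ?_⟩
      have : p.x ^ 2 + U.q a * U.q b * p.z ^ 2 = 1 := by linear_combination p.e + p.z ^ 2 * hδ'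
      match_scalars
      · ring
      · linear_combination (-d) * this
      · linear_combination (-e) * this
    · have kx : p.x = 1 := mul_left_cancel₀ h2 (by rw [k, mul_one])
      rw [show p = 1 from N.ext kx (z0 hδ p (by rw [kx]; ring)), map_one]

end H1.Q3F
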